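import Cfsg.Agent.Lib.Char.CyclicTI.IdemLift
import Cfsg.Agent.Lib.Core.FPFSymThreeBasic
import Mathlib.GroupTheory.Solvable
import Mathlib.Algebra.Module.ZMod
import Mathlib.FieldTheory.Finiteness
import Mathlib.Algebra.BigOperators.Group.Finset.Basic

/-!
# The fixed point formula for a Frobenius group acting coprimely on a solvable group

If `Γ = U E` is a Frobenius group acting coprimely on a solvable `H` then
`|C(Γ)| ^ |E| * |H| = |C(E)| ^ |E| * |C(U)|`.
-/

set_option autoImplicit false

namespace CfsgLib.FrobFix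

open scoped commutatorElement

variable {Γ : Type*} [Group Γ]

/-- The fixed points of `S` under an action by automorphisms. -/
def fixSub {H : Type*} [Group H] (φ : Γ →* MulAut H) (S : Subgroup Γ) : Subgroup H where
  carrier := {h | ∀ g ∈ S, φ g h = h}
  mul_mem' {a b} ha hb := fun g hg => by rw [map_mul, ha g hg, hb g hg]
  one_mem' := fun g _ => map_one _
  inv_mem' {a} ha := fun g hg => by rw [map_inv, ha g hg]

theorem mem_fixSub {H : Type*} [Group H] {φ : Γ →* MulAut H} {S : Subgroup Γ} {h : H} :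
    h ∈ fixSub φ S ↔ ∀ g ∈ S, φ g h = h := Iff.rfl

variable [Finite Γ] (U E : Subgroup Γ)

/-- The formula for one action. -/
def Formula {H : Type*} [Group H] (φ : Γ →* MulAut H) : Prop :=
  Nat.card (fixSub φ ⊤) ^ Nat.card E * Nat.card H =
    Nat.card (fixSub φ E) ^ Nat.card E * Nat.card (fixSub φ U)

omit [Finite Γ] in
/-- The partition of a Frobenius group. -/
theorem partition_identity [Fintype Γ] [Fintype U] [Fintype E] [U.Normal]
    (hcompl : U.IsComplement' E)
    (hfpf : ∀ x ∈ E, x ≠ 1 → ∀ w ∈ U, x * w = w * x → w = 1)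
    {R : Type*} [AddCommMonoid R] (F : Γ → R) :
    ∑ g, F g + Fintype.card U • F 1 =
      ∑ w : U, F w + ∑ w : U, ∑ x : E, F ((w : Γ) * x * (w : Γ)⁻¹) := by
  classical
  set S := (Finset.univ : Finset U) ×ˢ ((Finset.univ : Finset E).erase 1) with hS
  let f : U × E → Γ := fun q => (q.1 : Γ) * q.2 * (q.1 : Γ)⁻¹
  have hinj : Set.InjOn f S := by
    rintro ⟨w, x⟩ hq ⟨w', x'⟩ _ h
    have hx : x ≠ 1 := Finset.ne_of_mem_erase (Finset.mem_product.mp hq).2
    set v : Γ := (w' : Γ)⁻¹ * w with hv
    have hvU : v ∈ U := mul_mem (inv_mem w'.2) w.2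
    have h' : v * x * v⁻¹ = x' := by
      have h1 : (w : Γ) * x * (w : Γ)⁻¹ = (w' : Γ) * x' * (w' : Γ)⁻¹ := h
      calc v * x * v⁻¹ = (w' : Γ)⁻¹ * ((w : Γ) * x * (w : Γ)⁻¹) * w' := by rw [hv]; group
        _ = x' := by rw [h1]; group
    have hxx : x = x' := by
      have hmem : (x' : Γ) * (x : Γ)⁻¹ ∈ U := by
        rw [← h', show v * x * v⁻¹ * (x : Γ)⁻¹ = v * ((x : Γ) * v⁻¹ * (x : Γ)⁻¹) by group]
        exact mul_mem hvU (Subgroup.Normal.conj_mem inferInstance _ (inv_mem hvU) x)
      have hmem2 := hcompl.disjoint.le_bot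
        (Subgroup.mem_inf.mpr ⟨hmem, mul_mem x'.2 (inv_mem x.2)⟩)
      rw [Subgroup.mem_bot, mul_inv_eq_one] at hmem2
      exact Subtype.ext hmem2.symm
    subst hxx
    have hv1 : v = 1 := hfpf x x.2 (fun e => hx (Subtype.ext e)) v hvU
      (mul_inv_eq_iff_eq_mul.mp h').symm
    rw [hv, inv_mul_eq_one] at hv1
    exact Prod.ext (Subtype.ext hv1.symm) rfl
  have himg : S.image f = Finset.univ.filter fun g : Γ => g ∉ U := by
    refine Finset.eq_of_subset_of_card_le (fun g hg => ?_) ?_
    · obtain ⟨⟨w, x⟩, hq, rfl⟩ := Finset.mem_image.mp hg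
      have hx : x ≠ 1 := Finset.ne_of_mem_erase (Finset.mem_product.mp hq).2
      refine Finset.mem_filter.mpr ⟨Finset.mem_univ _, fun h => hx ?_⟩
      have hxU : (x : Γ) ∈ U := by
        have := mul_mem (mul_mem (inv_mem w.2) h) w.2
        simpa [f, mul_assoc] using this
      have := hcompl.disjoint.le_bot (Subgroup.mem_inf.mpr ⟨hxU, x.2⟩)
      exact Subtype.ext this
    · rw [Finset.card_image_of_injOn hinj, hS, Finset.card_product,
        Finset.card_erase_of_mem (Finset.mem_univ _), Finset.card_univ, Finset.card_univ,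
        Finset.filter_not, Finset.card_sdiff_of_subset (Finset.filter_subset _ _),
        Finset.card_univ, ← Fintype.card_subtype]
      have := hcompl.card_mul_card
      simp only [Nat.card_eq_fintype_card] at this
      rw [← this, Nat.mul_sub_one]
  have hsum : ∑ g ∈ Finset.univ.filter (fun g : Γ => g ∉ U), F g =
      ∑ w : U, ∑ x ∈ (Finset.univ : Finset E).erase 1, F ((w : Γ) * x * (w : Γ)⁻¹) := by
    rw [← himg, Finset.sum_image hinj, hS, Finset.sum_product]
  have hU : ∑ g ∈ Finset.univ.filter (fun g : Γ => g ∈ U), F g = ∑ w : U, F w :=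
    Finset.sum_subtype _ (by simp) _
  rw [← Finset.sum_filter_add_sum_filter_not Finset.univ (fun g : Γ => g ∈ U), hsum, hU,
    add_assoc]
  congr 1
  rw [← Finset.card_univ, ← Finset.sum_const, ← Finset.sum_add_distrib]
  refine Finset.sum_congr rfl fun w _ => ?_
  rw [← Finset.sum_erase_add _ _ (Finset.mem_univ (1 : E))]
  simp

/-- The formula for matrix representations over `ZMod p`. -/
theorem finrank_formula [U.Normal] (hcompl : U.IsComplement' E)
    (hfpf : ∀ x ∈ E, x ≠ 1 → ∀ w ∈ U, x * w = w * x → w = 1) {p : ℕ} [Fact p.Prime]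
    (hcop : (Nat.card Γ).Coprime p) {κ : Type*} [Fintype κ] [DecidableEq κ]
    (ρ : Γ →* (Matrix κ κ (ZMod p))ˣ) (fx : Subgroup Γ → Submodule (ZMod p) (κ → ZMod p))
    (hfx : ∀ A v, v ∈ fx A ↔ ∀ a ∈ A, (ρ a : Matrix κ κ (ZMod p)).mulVec v = v) :
    Nat.card E * Module.finrank (ZMod p) (fx ⊤) + Fintype.card κ =
      Nat.card E * Module.finrank (ZMod p) (fx E) + Module.finrank (ZMod p) (fx U) := by
  classical
  set d := Fintype.card κ
  set N := 2 * (Nat.card Γ * d) + 1 with hNdef
  have hN : N ≠ 0 := by omega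
  have hp := (Fact.out : p.Prime)
  have : NeZero (p ^ N) := ⟨pow_ne_zero _ hp.ne_zero⟩
  obtain ⟨ρ', hρ'⟩ := IdemLift.exists_lift hN hcop ρ
  have hmap : ∀ g, ((ρ' g : Matrix κ κ (ZMod (p ^ N)))).map (IdemLift.red hN) =
      (ρ g : Matrix κ κ (ZMod p)) := fun g => congrArg Units.val (hρ' g)
  have hA : ∀ (A : Subgroup Γ) [Fintype A],
      ∑ a : A, (ρ' a : Matrix κ κ (ZMod (p ^ N))).trace =
        (Fintype.card A : ZMod (p ^ N)) * (Module.finrank (ZMod p) (fx A) : ZMod (p ^ N)) := by
    intro A _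
    have hcA : (Fintype.card A).Coprime (p ^ N) := by
      rw [← Nat.card_eq_fintype_card]
      exact (hcop.pow_right N).coprime_dvd_left (Subgroup.card_subgroup_dvd_card A)
    set c : (ZMod (p ^ N))ˣ := ZMod.unitOfCoprime _ hcA with hc
    set s : Matrix κ κ (ZMod (p ^ N)) := ∑ a : A, (ρ' a : Matrix κ κ (ZMod (p ^ N))) with hs
    have hls : ∀ a : A, (ρ' a : Matrix κ κ (ZMod (p ^ N))) * s = s := by
      intro a
      rw [hs, Finset.mul_sum]
      exact Fintype.sum_equiv (Equiv.mulLeft a) _ _ fun b => by simp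
    have hss : s * s = (c : ZMod (p ^ N)) • s := by
      nth_rw 1 [hs]
      rw [Finset.sum_mul, Finset.sum_congr rfl fun a _ => hls a, Finset.sum_const,
        Finset.card_univ, hc, ZMod.coe_unitOfCoprime, Nat.cast_smul_eq_nsmul]
    set e : Matrix κ κ (ZMod (p ^ N)) := ((c⁻¹ : (ZMod (p ^ N))ˣ) : ZMod (p ^ N)) • s with he
    have hee : e * e = e := by
      rw [he, smul_mul_assoc, mul_smul_comm, hss, smul_smul, smul_smul, mul_assoc, Units.inv_mul,
        mul_one]
    have htr := IdemLift.trace_idem hN hee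
    have hrange : LinearMap.range (Matrix.toLin' (e.map (IdemLift.red hN))) = fx A := by
      set cb : ZMod p := IdemLift.red hN ((c⁻¹ : (ZMod (p ^ N))ˣ) : ZMod (p ^ N)) with hcb
      have hm : e.map (IdemLift.red hN) = cb • ∑ a : A, (ρ a : Matrix κ κ (ZMod p)) := by
        have h1 : (IdemLift.red (p := p) hN).mapMatrix s = ∑ a : A, (ρ a : Matrix κ κ (ZMod p)) := by
          rw [hs, map_sum]
          exact Finset.sum_congr rfl fun a _ => hmap a
        rw [← h1, he]
        ext i j
        simp [hcb]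
      refine le_antisymm ?_ fun v hv => ⟨v, ?_⟩
      · rintro _ ⟨v, rfl⟩
        rw [hfx]
        intro a ha
        rw [Matrix.toLin'_apply, Matrix.mulVec_mulVec, hm, mul_smul_comm]
        congr 2
        rw [Finset.mul_sum]
        exact Fintype.sum_equiv (Equiv.mulLeft (⟨a, ha⟩ : A)) _ _ fun b => by simp
      · rw [Matrix.toLin'_apply, hm, Matrix.smul_mulVec, Matrix.sum_mulVec,
          Finset.sum_congr rfl fun (a : A) _ => (hfx A v).mp hv (a : Γ) a.2, Finset.sum_const,
          Finset.card_univ, ← Nat.cast_smul_eq_nsmul (ZMod p), smul_smul, hcb,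
          ← map_natCast (IdemLift.red hN) (Fintype.card A), ← map_mul,
          ← ZMod.coe_unitOfCoprime _ hcA, ← hc, Units.inv_mul, map_one, one_smul]
    rw [hrange, he, Matrix.trace_smul, smul_eq_mul] at htr
    rw [← htr, ← mul_assoc, ← ZMod.coe_unitOfCoprime _ hcA, ← hc, Units.mul_inv, one_mul, hs,
      Matrix.trace_sum]
  have := Fintype.ofFinite Γ
  have := Fintype.ofFinite U
  have := Fintype.ofFinite E
  have hid := partition_identity U E hcompl hfpf
    fun g => (ρ' g : Matrix κ κ (ZMod (p ^ N))).trace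
  have hconj : ∀ (w : U) (x : E), (ρ' ((w : Γ) * x * (w : Γ)⁻¹) : Matrix κ κ (ZMod (p ^ N))).trace =
      (ρ' x : Matrix κ κ (ZMod (p ^ N))).trace := fun w x => by
    rw [map_mul, map_mul, map_inv, Units.val_mul, Units.val_mul, Matrix.trace_units_conj]
  have htop : ∑ g, (ρ' g : Matrix κ κ (ZMod (p ^ N))).trace =
      (Fintype.card Γ : ZMod (p ^ N)) * (Module.finrank (ZMod p) (fx ⊤) : ZMod (p ^ N)) := by
    have h := hA (⊤ : Subgroup Γ)
    rw [show Fintype.card (⊤ : Subgroup Γ) = Fintype.card Γ from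
      Fintype.card_congr Subgroup.topEquiv.toEquiv] at h
    rw [← h]
    exact (Fintype.sum_equiv Subgroup.topEquiv.toEquiv _ _ fun g => rfl).symm
  simp only [hconj, Finset.sum_const, Finset.card_univ, hA U, hA E, htop, map_one, Units.val_one,
    Matrix.trace_one, nsmul_eq_mul] at hid
  set r := Module.finrank (ZMod p) (fx ⊤) with hr
  set rU := Module.finrank (ZMod p) (fx U) with hrU
  set rE := Module.finrank (ZMod p) (fx E) with hrE
  have hle : ∀ S : Submodule (ZMod p) (κ → ZMod p), Module.finrank (ZMod p) S ≤ d := fun S =>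
    (Submodule.finrank_le S).trans (Module.finrank_fintype_fun_eq_card _).le
  have hcard : Fintype.card U * Fintype.card E = Fintype.card Γ := by
    simpa [Nat.card_eq_fintype_card] using hcompl.card_mul_card
  have hUle : Fintype.card U ≤ Fintype.card Γ := Fintype.card_subtype_le _
  have hbig : 2 * (Nat.card Γ * d) < p ^ N :=
    (Nat.lt_succ_self _).trans (Nat.lt_pow_self hp.one_lt)
  rw [Nat.card_eq_fintype_card] at hbig
  have heq : Fintype.card Γ * r + Fintype.card U * d =
      Fintype.card U * rU + Fintype.card U * (Fintype.card E * rE) := by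
    have hb1 : Fintype.card Γ * r + Fintype.card U * d < p ^ N := by
      have := Nat.mul_le_mul_left (Fintype.card Γ) (show r ≤ d from hle (fx ⊤))
      have := Nat.mul_le_mul_right d hUle
      omega
    have hb2 : Fintype.card U * rU + Fintype.card U * (Fintype.card E * rE) < p ^ N := by
      have := Nat.mul_le_mul hUle (show rU ≤ d from hle (fx U))
      have h2 := Nat.mul_le_mul_left (Fintype.card Γ) (show rE ≤ d from hle (fx E))
      rw [← mul_assoc, hcard]
      omega
    have h : ((Fintype.card Γ * r + Fintype.card U * d : ℕ) : ZMod (p ^ N)) =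
        ((Fintype.card U * rU + Fintype.card U * (Fintype.card E * rE) : ℕ) : ZMod (p ^ N)) := by
      push_cast
      linear_combination hid
    rw [ZMod.natCast_eq_natCast_iff'] at h
    rwa [Nat.mod_eq_of_lt hb1, Nat.mod_eq_of_lt hb2] at h
  rw [Nat.card_eq_fintype_card (α := E)]
  refine Nat.eq_of_mul_eq_mul_left (Fintype.card_pos : 0 < Fintype.card U) ?_
  rw [← hcard] at heq
  linarith

/-- Vector spaces over `ZMod p`. -/
theorem formula_module [U.Normal] (hcompl : U.IsComplement' E)
    (hfpf : ∀ x ∈ E, x ≠ 1 → ∀ w ∈ U, x * w = w * x → w = 1) {p : ℕ} [Fact p.Prime]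
    (hcop : (Nat.card Γ).Coprime p) {H : Type*} [CommGroup H] [Finite H]
    [Module (ZMod p) (Additive H)] (φ : Γ →* MulAut H) : Formula U E φ := by
  classical
  have : Finite (Additive H) := inferInstanceAs (Finite H)
  have : Module.Finite (ZMod p) (Additive H) := Module.Finite.of_finite
  let b : Module.Basis (Fin (Module.finrank (ZMod p) (Additive H))) (ZMod p) (Additive H) :=
    Module.finBasis (ZMod p) (Additive H)
  let κ := Fin (Module.finrank (ZMod p) (Additive H))
  let L : Γ →* Module.End (ZMod p) (Additive H) :=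
    { toFun := fun g => AddMonoidHom.toZModLinearMap p (φ g).toMonoidHom.toAdditive
      map_one' := LinearMap.ext fun x => by
        show Additive.ofMul (φ 1 (Additive.toMul x)) = x
        rw [map_one]
        rfl
      map_mul' := fun g h => LinearMap.ext fun x => by
        show Additive.ofMul (φ (g * h) (Additive.toMul x)) =
          Additive.ofMul (φ g (φ h (Additive.toMul x)))
        rw [map_mul]
        rfl }
  let ρ : Γ →* (Matrix κ κ (ZMod p))ˣ :=
    ((LinearMap.toMatrixAlgEquiv b).toRingEquiv.toRingHom.toMonoidHom.comp L).toHomUnits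
  let fx : Subgroup Γ → Submodule (ZMod p) (κ → ZMod p) := fun A =>
    { carrier := {v | ∀ a ∈ A, (ρ a : Matrix κ κ (ZMod p)).mulVec v = v}
      add_mem' := fun {v w} hv hw a ha => by rw [Matrix.mulVec_add, hv a ha, hw a ha]
      zero_mem' := fun a _ => Matrix.mulVec_zero _
      smul_mem' := fun t v hv a ha => by rw [Matrix.mulVec_smul, hv a ha] }
  have hrep : ∀ g (x : Additive H),
      (ρ g : Matrix κ κ (ZMod p)).mulVec (b.equivFun x) = b.equivFun (L g x) := fun g x => by
    show (LinearMap.toMatrix b b (L g)).mulVec (b.repr x) = b.repr (L g x)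
    exact LinearMap.toMatrix_mulVec_repr b b (L g) x
  have hcard : ∀ A : Subgroup Γ,
      Nat.card (fixSub φ A) = p ^ Module.finrank (ZMod p) (fx A) := by
    intro A
    have : Fintype (fx A) := Fintype.ofFinite _
    rw [Nat.card_congr (β := fx A) (Equiv.subtypeEquiv (Additive.ofMul.trans b.equivFun.toEquiv)
        fun h => ?_), Nat.card_eq_fintype_card, Module.card_eq_pow_finrank (K := ZMod p), ZMod.card]
    show (∀ g ∈ A, φ g h = h) ↔ ∀ a ∈ A,
      (ρ a : Matrix κ κ (ZMod p)).mulVec (b.equivFun (Additive.ofMul h)) =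
        b.equivFun (Additive.ofMul h)
    simp only [hrep, EmbeddingLike.apply_eq_iff_eq]
    exact forall₂_congr fun g _ => Additive.ofMul.injective.eq_iff.symm
  have hH : Nat.card H = p ^ Fintype.card κ := by
    have := Fintype.ofFinite (Additive H)
    rw [show Nat.card H = Nat.card (Additive H) from Nat.card_congr Additive.ofMul,
      Nat.card_eq_fintype_card, Module.card_eq_pow_finrank (K := ZMod p), ZMod.card,
      Fintype.card_fin]
  have key := finrank_formula U E hcompl hfpf hcop ρ fx (fun A v => Iff.rfl)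
  unfold Formula
  rw [hcard, hcard, hcard, hH, ← pow_mul, ← pow_mul, ← pow_add, ← pow_add, mul_comm _ (Nat.card E),
    mul_comm _ (Nat.card E), key]

/-- Abelian groups of exponent `p`. -/
theorem formula_elementary [U.Normal] (hcompl : U.IsComplement' E)
    (hfpf : ∀ x ∈ E, x ≠ 1 → ∀ w ∈ U, x * w = w * x → w = 1) {p : ℕ} [Fact p.Prime]
    (hcop : (Nat.card Γ).Coprime p) {H : Type*} [Group H] [Finite H]
    (hc : ∀ a b : H, a * b = b * a) (hexp : ∀ a : H, a ^ p = 1) (φ : Γ →* MulAut H) :
    Formula U E φ := by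
  let _ : CommGroup H := { (inferInstance : Group H) with mul_comm := hc }
  have h0 : ∀ x : Additive H, p • x = 0 := fun x => hexp (Additive.toMul x)
  let inst : Module (ZMod p) (Additive H) := AddCommGroup.zmodModule h0
  exact formula_module U E hcompl hfpf hcop φ

/-- Fixed points are multiplicative along an invariant normal subgroup. -/
theorem card_fix_mul {H : Type*} [Group H] [Finite H] (φ : Γ →* MulAut H) (N : Subgroup H)
    [N.Normal] (hsolv : Group.IsSolvable N) (hcop : (Nat.card Γ).Coprime (Nat.card N))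
    (φN : Γ →* MulAut N) (hφN : ∀ g (x : N), (φN g x : H) = φ g x)
    (φQ : Γ →* MulAut (H ⧸ N)) (hφQ : ∀ g (x : H), φQ g (x : H ⧸ N) = ((φ g x : H) : H ⧸ N))
    (S : Subgroup Γ) :
    Nat.card (fixSub φ S) = Nat.card (fixSub φN S) * Nat.card (fixSub φQ S) := by
  let f : fixSub φ S →* fixSub φQ S :=
    { toFun := fun x => ⟨((x : H) : H ⧸ N), fun g hg => by rw [hφQ, x.2 g hg]⟩
      map_one' := rfl
      map_mul' := fun _ _ => rfl }
  have hsurj : Function.Surjective f := by
    rintro ⟨y, hy⟩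
    obtain ⟨x, rfl⟩ := QuotientGroup.mk_surjective y
    obtain ⟨n, hn, hfix⟩ := CfsgLib.Core.FPFSymThree.exists_fixed_in_coset (φ.comp S.subtype) N
      (fun g n hn => (hφN (g : Γ) ⟨n, hn⟩).symm ▸ (φN (g : Γ) ⟨n, hn⟩).2)
      (hcop.coprime_dvd_left (Subgroup.card_subgroup_dvd_card S)) hsolv x fun g => by
        have h := hy (g : Γ) g.2
        rw [hφQ] at h
        exact QuotientGroup.eq.mp h.symm
    refine ⟨⟨x * n, fun g hg => hfix ⟨g, hg⟩⟩, Subtype.ext ?_⟩
    show ((x * n : H) : H ⧸ N) = x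
    rw [QuotientGroup.mk_mul, (QuotientGroup.eq_one_iff n).mpr hn, mul_one]
  rw [← f.ker.card_mul_index, Subgroup.index_ker, MonoidHom.range_eq_top.mpr hsurj,
    Subgroup.card_top]
  congr 1
  refine Nat.card_congr ⟨fun x => ⟨⟨(x.1 : H), ?_⟩, fun g hg => Subtype.ext ?_⟩,
    fun y => ⟨⟨((y : N) : H), fun g hg => ?_⟩, ?_⟩, fun x => rfl, fun y => rfl⟩
  · exact (QuotientGroup.eq_one_iff _).mp (congrArg Subtype.val (MonoidHom.mem_ker.mp x.2))
  · rw [hφN]; exact x.1.2 g hg
  · rw [← hφN, y.2 g hg]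
  · rw [MonoidHom.mem_ker]
    exact Subtype.ext ((QuotientGroup.eq_one_iff _).mpr (y : N).2)

omit [Finite Γ] in
theorem exists_restrict_quotient {H : Type*} [Group H] (φ : Γ →* MulAut H) (N : Subgroup H)
    [N.Characteristic] :
    ∃ (φN : Γ →* MulAut N) (φQ : Γ →* MulAut (H ⧸ N)),
      (∀ g (x : N), (φN g x : H) = φ g x) ∧
      ∀ g (x : H), φQ g (x : H ⧸ N) = ((φ g x : H) : H ⧸ N) := by
  have hmem : ∀ g, ∀ x ∈ N, φ g x ∈ N := fun g x hx =>
    (Subgroup.characteristic_iff_map_le.mp ‹_› (φ g)) ⟨x, hx, rfl⟩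
  have hmap : ∀ g, N.map (φ g).toMonoidHom = N := fun g =>
    Subgroup.characteristic_iff_map_eq.mp ‹_› (φ g)
  refine ⟨{
    toFun := fun g =>
      { toFun := fun x => ⟨φ g x, hmem g x x.2⟩
        invFun := fun x => ⟨φ g⁻¹ x, hmem g⁻¹ x x.2⟩
        left_inv := fun x => Subtype.ext (by
          show φ g⁻¹ (φ g x) = x
          rw [← MulAut.mul_apply, ← map_mul, inv_mul_cancel, map_one, MulAut.one_apply])
        right_inv := fun x => Subtype.ext (by
          show φ g (φ g⁻¹ x) = x
          rw [← MulAut.mul_apply, ← map_mul, mul_inv_cancel, map_one, MulAut.one_apply])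
        map_mul' := fun a b => Subtype.ext (map_mul (φ g) (a : H) (b : H)) }
    map_one' := MulEquiv.ext fun x => Subtype.ext (by
      show φ 1 x = x
      rw [map_one, MulAut.one_apply])
    map_mul' := fun g h => MulEquiv.ext fun x => Subtype.ext (by
      show φ (g * h) x = φ g (φ h x)
      rw [map_mul, MulAut.mul_apply]) }, {
    toFun := fun g => QuotientGroup.congr N N (φ g) (hmap g)
    map_one' := MulEquiv.ext fun y => by
      obtain ⟨x, rfl⟩ := QuotientGroup.mk_surjective y
      show ((φ 1 x : H) : H ⧸ N) = _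
      rw [map_one]
      rfl
    map_mul' := fun g h => MulEquiv.ext fun y => by
      obtain ⟨x, rfl⟩ := QuotientGroup.mk_surjective y
      show ((φ (g * h) x : H) : H ⧸ N) = ((φ g (φ h x) : H) : H ⧸ N)
      rw [map_mul]
      rfl }, fun g x => rfl, fun g x => rfl⟩

theorem formula_aux [U.Normal] (hcompl : U.IsComplement' E)
    (hfpf : ∀ x ∈ E, x ≠ 1 → ∀ w ∈ U, x * w = w * x → w = 1) (n : ℕ) :
    ∀ (H : Type*) [Group H] [Finite H] (φ : Γ →* MulAut H), Nat.card H = n →
      Group.IsSolvable H → (Nat.card Γ).Coprime (Nat.card H) → Formula U E φ := by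
  induction n using Nat.strong_induction_on with
  | _ n ih =>
  intro H _ _ φ hn hsolv hcop
  subst hn
  have step : ∀ N : Subgroup H, N.Characteristic → N ≠ ⊥ → N ≠ ⊤ → Formula U E φ := by
    intro N hchar hbot htop
    have := hchar
    obtain ⟨φN, φQ, hN, hQ⟩ := exists_restrict_quotient φ N
    have hmul := card_fix_mul φ N (hsolv := inferInstance)
      (hcop.coprime_dvd_right N.card_subgroup_dvd_card) φN hN φQ hQ
    have hH := Subgroup.card_eq_card_quotient_mul_card_subgroup N
    have hlt1 : Nat.card N < Nat.card H :=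
      lt_of_le_of_ne N.card_le_card_group fun e => htop (Subgroup.eq_top_of_card_eq N e)
    have hlt2 : Nat.card (H ⧸ N) < Nat.card H := by
      rw [hH]
      exact lt_mul_of_one_lt_right Nat.card_pos (((Subgroup.one_lt_card_iff_ne_bot N).mpr hbot))
    have e1 := ih _ hlt1 N φN rfl inferInstance
      (hcop.coprime_dvd_right N.card_subgroup_dvd_card)
    have e2 := ih _ hlt2 (H ⧸ N) φQ rfl inferInstance
      (hcop.coprime_dvd_right N.card_quotient_dvd_card)
    unfold Formula at e1 e2 ⊢
    rw [hmul ⊤, hmul E, hmul U, hH, mul_pow, mul_pow]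
    calc _ = (Nat.card (fixSub φN ⊤) ^ Nat.card E * Nat.card N) *
          (Nat.card (fixSub φQ ⊤) ^ Nat.card E * Nat.card (H ⧸ N)) := by ring
      _ = (Nat.card (fixSub φN E) ^ Nat.card E * Nat.card (fixSub φN U)) *
          (Nat.card (fixSub φQ E) ^ Nat.card E * Nat.card (fixSub φQ U)) := by rw [e1, e2]
      _ = _ := by ring
  by_cases hH1 : Nat.card H = 1
  · have : Subsingleton H := (Nat.card_eq_one_iff_unique.mp hH1).1
    unfold Formula
    simp
  by_cases hcomm : commutator H = ⊥
  swap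
  · refine step _ inferInstance hcomm fun htop => ?_
    have : Nontrivial H := Finite.one_lt_card_iff_nontrivial.mp (by
      have := Nat.card_pos (α := H); omega)
    exact (Group.IsSolvable.commutator_lt_top_of_nontrivial H).ne htop
  have hc : ∀ a b : H, a * b = b * a := fun a b => by
    have h1 : ⁅a, b⁆ ∈ commutator H := Subgroup.commutator_mem_commutator (Subgroup.mem_top a)
      (Subgroup.mem_top b)
    rw [hcomm, Subgroup.mem_bot, commutatorElement_eq_one_iff_mul_comm] at h1
    exact h1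
  obtain ⟨p, hp, hpd⟩ := Nat.exists_prime_and_dvd hH1
  have := Fact.mk hp
  let N : Subgroup H :=
    { carrier := {a | a ^ p = 1}
      mul_mem' := fun {a b} (ha : a ^ p = 1) (hb : b ^ p = 1) => show (a * b) ^ p = 1 by
        rw [(show Commute a b from hc a b).mul_pow, ha, hb, one_mul]
      one_mem' := one_pow p
      inv_mem' := fun {a} (ha : a ^ p = 1) => show a⁻¹ ^ p = 1 by rw [inv_pow, ha, inv_one] }
  have hNchar : N.Characteristic := Subgroup.characteristic_iff_map_le.mpr fun σ x hx => by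
    obtain ⟨a, ha, rfl⟩ := hx
    show (σ a) ^ p = 1
    rw [← map_pow, show a ^ p = 1 from ha, map_one]
  have hNbot : N ≠ ⊥ := by
    obtain ⟨a, ha⟩ := exists_prime_orderOf_dvd_card' p hpd
    intro e
    have h1 : a ∈ N := show a ^ p = 1 by rw [← ha]; exact pow_orderOf_eq_one a
    rw [e, Subgroup.mem_bot] at h1
    rw [h1, orderOf_one] at ha
    exact hp.ne_one ha.symm
  by_cases hNtop : N = ⊤
  · exact formula_elementary U E hcompl hfpf (hcop.coprime_dvd_right hpd) hc
      (fun a => (show a ∈ N by rw [hNtop]; trivial)) φ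
  · exact step N hNchar hNbot hNtop

omit [Finite Γ] in
/-- The formula inside a group. -/
theorem formula_subgroup {X : Type*} [Group X] [Finite X] (U E H : Subgroup X) (hUE : U ⊓ E = ⊥)
    (hUn : ∀ e ∈ E, ∀ u ∈ U, e * u * e⁻¹ ∈ U)
    (hfpf : ∀ e ∈ E, e ≠ 1 → ∀ u ∈ U, e * u = u * e → u = 1)
    (hHn : ∀ x ∈ U ⊔ E, ∀ h ∈ H, x * h * x⁻¹ ∈ H) (hsolv : Group.IsSolvable H)
    (hcop : Nat.Coprime (Nat.card H) (Nat.card ↥(U ⊔ E))) :
    Nat.card ↥(H ⊓ Subgroup.centralizer ((U ⊔ E : Subgroup X) : Set X)) ^ Nat.card E * Nat.card H =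
      Nat.card ↥(H ⊓ Subgroup.centralizer (E : Set X)) ^ Nat.card E *
        Nat.card ↥(H ⊓ Subgroup.centralizer (U : Set X)) := by
  set A := U ⊔ E with hA
  have hmem : ∀ g : A, ∀ h : H, (g : X) * h * (g : X)⁻¹ ∈ H := fun g h => hHn g g.2 h h.2
  let φ : A →* MulAut H :=
    { toFun := fun g =>
        { toFun := fun h => ⟨g * h * (g : X)⁻¹, hmem g h⟩
          invFun := fun h => ⟨(g⁻¹ : A) * h * ((g⁻¹ : A) : X)⁻¹, hmem g⁻¹ h⟩
          left_inv := fun h => Subtype.ext (by simp [mul_assoc])
          right_inv := fun h => Subtype.ext (by simp [mul_assoc])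
          map_mul' := fun a b => Subtype.ext (by simp [mul_assoc]) }
      map_one' := MulEquiv.ext fun h => Subtype.ext (by simp)
      map_mul' := fun a b => MulEquiv.ext fun h => Subtype.ext (by simp [mul_assoc]) }
  have hUnorm : ∀ x ∈ A, ∀ u ∈ U, x * u * x⁻¹ ∈ U := by
    have hle : A ≤ Subgroup.normalizer (U : Set X) := by
      refine sup_le Subgroup.le_normalizer fun e he => ?_
      rw [Subgroup.mem_normalizer_iff]
      refine fun u => ⟨hUn e he u, fun h => ?_⟩
      have := hUn e⁻¹ (inv_mem he) _ h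
      simpa [mul_assoc] using this
    exact fun x hx u hu => (Subgroup.mem_normalizer_iff.mp (hle hx) u).mp hu
  let U' := U.subgroupOf A
  let E' := E.subgroupOf A
  have : U'.Normal := ⟨fun n hn g => hUnorm g g.2 n hn⟩
  have hcompl : U'.IsComplement' E' := by
    refine Subgroup.isComplement'_of_disjoint_and_mul_eq_univ (disjoint_iff.mpr ?_) ?_
    · rw [eq_bot_iff]
      intro x hx
      have h1 : (x : X) ∈ U ⊓ E := ⟨hx.1, hx.2⟩
      rw [hUE, Subgroup.mem_bot] at h1
      exact Subgroup.mem_bot.mpr (Subtype.ext h1)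
    · rw [← Subgroup.normal_mul, ← Subgroup.subgroupOf_sup le_sup_left le_sup_right,
        Subgroup.subgroupOf_self, Subgroup.coe_top]
  have hfpf' : ∀ x ∈ E', x ≠ 1 → ∀ w ∈ U', x * w = w * x → w = 1 := fun x hx hx1 w hw e =>
    Subtype.ext (hfpf x hx (fun h => hx1 (Subtype.ext h)) w hw (congrArg Subtype.val e))
  have key := formula_aux U' E' hcompl hfpf' (Nat.card H) H φ rfl hsolv
    (by rw [hA]; exact hcop.symm)
  unfold Formula at key
  have hcent : ∀ B : Subgroup X, B ≤ A →
      Nat.card (fixSub φ (B.subgroupOf A)) = Nat.card ↥(H ⊓ Subgroup.centralizer (B : Set X)) := by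
    intro B hB
    refine Nat.card_congr ⟨fun h => ⟨(h : H), Subgroup.mem_inf.mpr ⟨(h : H).2, ?_⟩⟩,
      fun y => ⟨⟨y, (Subgroup.mem_inf.mp y.2).1⟩, fun g hg => Subtype.ext ?_⟩,
      fun h => rfl, fun y => rfl⟩
    · rw [Subgroup.mem_centralizer_iff]
      intro b hb
      have h1 : b * ((h : H) : X) * b⁻¹ = (h : H) :=
        congrArg Subtype.val (h.2 ⟨b, hB hb⟩ hb)
      exact mul_inv_eq_iff_eq_mul.mp h1
    · show (g : X) * y * (g : X)⁻¹ = y
      have e : (g : X) * y = y * g :=
        Subgroup.mem_centralizer_iff.mp (Subgroup.mem_inf.mp y.2).2 _ hg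
      rw [e, mul_inv_cancel_right]
  have hE : Nat.card E' = Nat.card E := Nat.card_congr (Subgroup.subgroupOfEquivOfLe le_sup_right).toEquiv
  rw [← Subgroup.subgroupOf_self, hcent A le_rfl, hcent E le_sup_right, hcent U le_sup_left, hE]
    at key
  exact key

end CfsgLib.FrobFix
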