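import Cfsg.Agent.Lib.Char.CyclicTI.Family
import Cfsg.Agent.Lib.Char.PowerTwist
import Cfsg.Agent.Lib.Char.Rationality
import Cfsg.Agent.Lib.Char.Virtual
import Cfsg.Agent.Lib.Char.Integral

/-!
# Galois compatibility and rationality of a cyclic TI family
-/

set_option autoImplicit false

namespace CfsgLib.CyclicTI

open CfsgLib.Char
open scoped ComplexConjugate

variable {G : Type*} [Group G] [Fintype G]

/-- `x` is an irreducible character or the negative of one. -/
def SignedIrr (x : G → ℂ) : Prop := Cfsg.IsIrrCharacter G x ∨ Cfsg.IsIrrCharacter G (-x)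

omit [Fintype G] in
theorem SignedIrr.exists_sign {x : G → ℂ} (h : SignedIrr x) :
    ∃ (s : ℤ) (a : Cfsg.IrrCharacter G), (s = 1 ∨ s = -1) ∧ x = (s : ℂ) • (a : G → ℂ) := by
  rcases h with h | h
  · exact ⟨1, ⟨x, h⟩, Or.inl rfl, by simp⟩
  · exact ⟨-1, ⟨-x, h⟩, Or.inr rfl, by simp⟩

theorem SignedIrr.trichotomy {x y : G → ℂ} (hx : SignedIrr x) (hy : SignedIrr y) :
    Cfsg.classInner x y = 0 ∨ (x = y ∧ Cfsg.classInner x y = 1) ∨
      (x = -y ∧ Cfsg.classInner x y = -1) := by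
  obtain ⟨s, a, hs, rfl⟩ := hx.exists_sign
  obtain ⟨t, b, ht, rfl⟩ := hy.exists_sign
  rw [classInner_smul_left, classInner_smul_right, map_intCast]
  by_cases h : a = b
  · subst h
    rw [classInner_irr_self]
    rcases hs with rfl | rfl <;> rcases ht with rfl | rfl <;> simp
  · rw [classInner_irr_of_ne h]
    simp

theorem classInner_comp_pow {k : ℕ} (hk : k.Coprime (Nat.card G)) (f h : G → ℂ) :
    Cfsg.classInner (fun g => f (g ^ k)) (fun g => h (g ^ k)) = Cfsg.classInner f h := by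
  simp only [Cfsg.classInner]
  congr 1
  exact Fintype.sum_equiv (powCoprime hk.symm) _ _ fun g => rfl

theorem inner_neg_right (f g : G → ℂ) : Cfsg.classInner f (-g) = -Cfsg.classInner f g := by
  rw [show (-g) = (-1 : ℂ) • g by simp, classInner_smul_right]; simp

/-- If `F x + F y - F z = E x + E y - E z` for two disjoint choices of `(y, z)`, then
`E x = F x`. -/
theorem SignedIrr.eq_of_relation {ι : Type*} {E F : ι → G → ℂ} (hE : ∀ i, SignedIrr (E i))
    (hF : ∀ i, SignedIrr (F i)) (hEo : ∀ i j, i ≠ j → Cfsg.classInner (E i) (E j) = 0)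
    (hFo : ∀ i j, i ≠ j → Cfsg.classInner (F i) (F j) = 0)
    {x y z y' z' : ι} (hxy : x ≠ y) (hxz : x ≠ z) (hxy' : x ≠ y') (hxz' : x ≠ z')
    (hyy : y ≠ y') (hyz : y ≠ z') (hzy : z ≠ y') (hzz : z ≠ z')
    (h : F x + F y - F z = E x + E y - E z) (h' : F x + F y' - F z' = E x + E y' - E z') :
    E x = F x := by
  have key : ∀ y z, x ≠ y → x ≠ z → F x + F y - F z = E x + E y - E z →
      Cfsg.classInner (F x) (E x) + Cfsg.classInner (F x) (E y) -
        Cfsg.classInner (F x) (E z) = 1 := by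
    intro y z hy hz e
    rw [← classInner_add_right, ← classInner_sub_right, ← e, classInner_sub_right,
      classInner_add_right, hFo x y hy, hFo x z hz]
    have h1 : Cfsg.classInner (F x) (F x) = 1 := by
      obtain ⟨s, a, hs, ha⟩ := (hF x).exists_sign
      rw [ha, classInner_smul_left, classInner_smul_right, classInner_irr_self, map_intCast]
      rcases hs with rfl | rfl <;> simp
    rw [h1]; ring
  have k1 := key y z hxy hxz h
  have k2 := key y' z' hxy' hxz' h'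
  rcases (hF x).trichotomy (hE x) with h0 | ⟨e, -⟩ | ⟨e, h0⟩
  · exfalso
    rw [h0, zero_add] at k1 k2
    have hor : ∀ y z, Cfsg.classInner (F x) (E y) - Cfsg.classInner (F x) (E z) = 1 →
        ∃ a, (a = y ∨ a = z) ∧ (F x = E a ∨ F x = -E a) := by
      intro y z hk
      rcases (hF x).trichotomy (hE y) with a0 | ⟨a1, -⟩ | ⟨a1, -⟩
      · rcases (hF x).trichotomy (hE z) with b0 | ⟨b1, -⟩ | ⟨b1, -⟩
        · rw [a0, b0] at hk; norm_num at hk
        · exact ⟨z, Or.inr rfl, Or.inl b1⟩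
        · exact ⟨z, Or.inr rfl, Or.inr b1⟩
      · exact ⟨y, Or.inl rfl, Or.inl a1⟩
      · exact ⟨y, Or.inl rfl, Or.inr a1⟩
    obtain ⟨a, ha, ea⟩ := hor y z k1
    obtain ⟨b, hb, eb⟩ := hor y' z' k2
    have hab : a ≠ b := by
      rcases ha with rfl | rfl <;> rcases hb with rfl | rfl <;> assumption
    have hz := hEo a b hab
    have hself : ∀ i, Cfsg.classInner (E i) (E i) ≠ 0 := by
      intro i hi
      obtain ⟨s, c, hs, hc⟩ := (hE i).exists_sign
      rw [hc, classInner_smul_left, classInner_smul_right, classInner_irr_self, map_intCast] at hi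
      rcases hs with rfl | rfl <;> simp at hi
    rcases ea with ea | ea <;> rcases eb with eb | eb
    · rw [← eb, ea] at hz; exact hself a hz
    · rw [show E b = -E a by rw [← ea, eb, neg_neg], inner_neg_right] at hz
      exact hself a (neg_eq_zero.mp hz)
    · rw [show E b = -E a by rw [← eb, ea], inner_neg_right] at hz
      exact hself a (neg_eq_zero.mp hz)
    · rw [show E b = E a from neg_injective (eb.symm.trans ea)] at hz; exact hself a hz
  · exact e.symm
  · exfalso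
    have hz : ∀ i, x ≠ i → Cfsg.classInner (F x) (E i) = 0 := fun i hi => by
      rw [e, classInner_neg_left, hEo x i hi, neg_zero]
    rw [h0, hz y hxy, hz z hxz] at k1
    norm_num at k1

variable {W₁ W₂ : Subgroup G}

theorem indFun_apply_pow_alpha (φ ψ : ↥(W₁ ⊔ W₂) →* ℂˣ) {k : ℕ} (hk : k.Coprime (Nat.card G))
    (g : G) : Cfsg.indFun (W₁ ⊔ W₂) (alpha φ ψ) (g ^ k) =
      Cfsg.indFun (W₁ ⊔ W₂) (alpha (φ ^ k) (ψ ^ k)) g := by
  classical
  simp only [Cfsg.indFun]
  congr 1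
  refine Finset.sum_congr rfl fun x _ => ?_
  have e : x⁻¹ * g ^ k * x = (x⁻¹ * g * x) ^ k := by
    have h := conj_pow (i := k) (a := x⁻¹) (b := g)
    rw [inv_inv] at h
    exact h.symm
  by_cases hg : x⁻¹ * g * x ∈ (W₁ ⊔ W₂ : Subgroup G)
  · rw [e, extendByZero_of_mem _ _ (pow_mem hg k), extendByZero_of_mem _ _ hg]
    simp only [alpha, MonoidHom.pow_apply, ← map_pow]
    rfl
  · rw [extendByZero_of_notMem _ _ hg, extendByZero_of_notMem]
    rw [e, mem_iff_pow_mem _ hk]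
    exact hg

omit [Fintype G] in
theorem pow_hom_inj [Finite G] {k : ℕ} (hk : k.Coprime (Nat.card G)) {ω ω' : ↥(W₁ ⊔ W₂) →* ℂˣ}
    (h : ω ^ k = ω' ^ k) : ω = ω' := by
  ext w
  have hk' : k.Coprime (Nat.card ↥(W₁ ⊔ W₂)) :=
    hk.coprime_dvd_right (Subgroup.card_subgroup_dvd_card _)
  obtain ⟨m, hm⟩ := exists_pow_eq_self_of_coprime (x := w)
    (hk'.coprime_dvd_right (orderOf_dvd_natCard w))
  have h1 := congrArg (fun f : ↥(W₁ ⊔ W₂) →* ℂˣ => (f w) ^ m) h
  simp only [MonoidHom.pow_apply, ← map_pow, hm] at h1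
  rw [h1]

variable (hW : Cfsg.IsSelfNormalizingCyclic W₁ W₂) {χ : (↥(W₁ ⊔ W₂) →* ℂˣ) → (G → ℂ)}
  (hχ : Cfsg.IsCyclicTIFamily W₁ W₂ χ)

include hW hχ

theorem apply_pow (hodd : Odd (Nat.card ↥(W₁ ⊔ W₂))) {k : ℕ} (hk : k.Coprime (Nat.card G))
    (ω : ↥(W₁ ⊔ W₂) →* ℂˣ) : (fun g => χ ω (g ^ k)) = χ (ω ^ k) := by
  classical
  have hA1 : ∀ a b : W₁, a * b = b * a := fun a b => Subtype.ext (congrArg Subtype.val
    (W_comm hW ⟨a, Subgroup.mem_sup_left a.2⟩ ⟨b, Subgroup.mem_sup_left b.2⟩) :)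
  have hA2 : ∀ a b : W₂, a * b = b * a := fun a b => Subtype.ext (congrArg Subtype.val
    (W_comm hW ⟨a, Subgroup.mem_sup_right a.2⟩ ⟨b, Subgroup.mem_sup_right b.2⟩) :)
  have := finite_hom W₁
  have := finite_hom W₂
  have := Fintype.ofFinite (W₁ →* ℂˣ)
  have := Fintype.ofFinite (W₂ →* ℂˣ)
  have o1 : Odd (Nat.card W₁) := hodd.of_dvd_nat (Subgroup.card_dvd_of_le le_sup_left)
  have o2 : Odd (Nat.card W₂) := hodd.of_dvd_nat (Subgroup.card_dvd_of_le le_sup_right)
  have n1 : Nat.card W₁ ≠ 1 := fun h => hW.1 (Subgroup.card_eq_one.mp h)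
  have n2 : Nat.card W₂ ≠ 1 := fun h => hW.2.1 (Subgroup.card_eq_one.mp h)
  obtain ⟨r1, hr1⟩ := o1
  obtain ⟨r2, hr2⟩ := o2
  have c1 : 2 < Fintype.card (W₁ →* ℂˣ) := by
    rw [← Nat.card_eq_fintype_card, card_hom hA1]; omega
  have c2 : 2 < Fintype.card (W₂ →* ℂˣ) := by
    rw [← Nat.card_eq_fintype_card, card_hom hA2]; omega
  set E : (↥(W₁ ⊔ W₂) →* ℂˣ) → G → ℂ := fun ω g => χ ω (g ^ k) with hEdef
  set F : (↥(W₁ ⊔ W₂) →* ℂˣ) → G → ℂ := fun ω => χ (ω ^ k) with hFdef
  have hE : ∀ ω, SignedIrr (E ω) := fun ω => by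
    rcases hχ.irr_or_neg ω with h | h
    · exact Or.inl (isIrrCharacter_pow h hk)
    · exact Or.inr (isIrrCharacter_pow h hk)
  have hF : ∀ ω, SignedIrr (F ω) := fun ω => hχ.irr_or_neg _
  have hEo : ∀ i j, i ≠ j → Cfsg.classInner (E i) (E j) = 0 := fun i j hij => by
    rw [classInner_comp_pow hk, hχ.orthonormal, if_neg hij]
  have hFo : ∀ i j, i ≠ j → Cfsg.classInner (F i) (F j) = 0 := fun i j hij => by
    rw [hFdef, hχ.orthonormal, if_neg fun e => hij (pow_hom_inj hk e)]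
  have hk1 : (1 : ↥(W₁ ⊔ W₂) →* ℂˣ) ^ k = 1 := by ext w; simp
  have hrel : ∀ (l : W₁ →* ℂˣ) (j : W₂ →* ℂˣ), l ≠ 1 → j ≠ 1 →
      F (inl hW l) + F (inr hW j) - F (inl hW l * inr hW j) =
        E (inl hW l) + E (inr hW j) - E (inl hW l * inr hW j) := by
    intro l j hl hj
    have a1 : inl hW l ≠ 1 := fun e => hl (inl_injective hW (e.trans (inl_one hW).symm))
    have a2 : inr hW j ≠ 1 := fun e => hj (inr_injective hW (e.trans (inr_one hW).symm))
    have b1 : inl hW l ^ k ≠ 1 := fun e => a1 (pow_hom_inj hk (e.trans hk1.symm))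
    have b2 : inr hW j ^ k ≠ 1 := fun e => a2 (pow_hom_inj hk (e.trans hk1.symm))
    have e1 := hχ.induced_eq _ _ a1 a2 (inl_apply_W₂ hW l) (inr_apply_W₁ hW j)
    have e2 := hχ.induced_eq _ _ b1 b2
      (fun w hw => by rw [MonoidHom.pow_apply, inl_apply_W₂ hW l w hw, one_pow])
      (fun w hw => by rw [MonoidHom.pow_apply, inr_apply_W₁ hW j w hw, one_pow])
    funext g
    have u1 := congrFun e1 (g ^ k)
    have u2 := congrFun e2 g
    have u3 := indFun_apply_pow_alpha (inl hW l) (inr hW j) hk g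
    unfold alpha at u3
    have em : (inl hW l * inr hW j) ^ k = inl hW l ^ k * inr hW j ^ k := by ext w; simp [mul_pow]
    simp only [hEdef, hFdef, Pi.add_apply, Pi.sub_apply, em]
    linear_combination u2 - u1 + u3
  have hx : ∀ {l l' : W₁ →* ℂˣ} {j j' : W₂ →* ℂˣ}, (l ≠ l' ∨ j ≠ j') →
      inl hW l * inr hW j ≠ inl hW l' * inr hW j' := fun h e => by
    have := mul_inj hW e
    tauto
  have dLR : ∀ {l : W₁ →* ℂˣ} {j : W₂ →* ℂˣ}, l ≠ 1 → inl hW l ≠ inr hW j := fun {l j} h => by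
    have := hx (l := l) (j := 1) (l' := 1) (j' := j) (Or.inl h)
    rwa [inr_one, inl_one, hom_one_mul, hom_mul_one] at this
  have dLM : ∀ {l l' : W₁ →* ℂˣ} {j : W₂ →* ℂˣ}, j ≠ 1 → inl hW l ≠ inl hW l' * inr hW j :=
    fun {l l' j} h => by
      have := hx (l := l) (j := 1) (l' := l') (j' := j) (Or.inr h.symm)
      rwa [inr_one, hom_mul_one] at this
  have dRM : ∀ {l : W₁ →* ℂˣ} {j j' : W₂ →* ℂˣ}, l ≠ 1 → inr hW j ≠ inl hW l * inr hW j' :=
    fun {l j j'} h => by
      have := hx (l := 1) (j := j) (l' := l) (j' := j') (Or.inl h.symm)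
      rwa [inl_one, hom_one_mul] at this
  have dLL : ∀ {l l' : W₁ →* ℂˣ}, l ≠ l' → inl hW l ≠ inl hW l' := fun h e => h (inl_injective hW e)
  have dRR : ∀ {j j' : W₂ →* ℂˣ}, j ≠ j' → inr hW j ≠ inr hW j' := fun h e => h (inr_injective hW e)
  have hone : E 1 = F 1 := by
    funext g
    simp only [hEdef, hFdef, hk1, hχ.map_one]
  have h1 : ∀ l, E (inl hW l) = F (inl hW l) := by
    intro l
    by_cases hl : l = 1
    · rw [hl, inl_one, hone]
    obtain ⟨j, hj⟩ := Fintype.exists_ne_of_one_lt_card (by omega : 1 < Fintype.card (W₂ →* ℂˣ)) 1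
    obtain ⟨j', hj', hjj⟩ : ∃ j', j' ≠ 1 ∧ j' ≠ j := by
      obtain ⟨j', hj'⟩ : ∃ j', j' ∉ ({1, j} : Finset (W₂ →* ℂˣ)) := by
        by_contra hcon
        push Not at hcon
        have := Finset.card_le_card (s := Finset.univ) (t := ({1, j} : Finset (W₂ →* ℂˣ)))
          fun a _ => hcon a
        have := Finset.card_le_two (a := (1 : W₂ →* ℂˣ)) (b := j)
        rw [Finset.card_univ] at *
        omega
      simp only [Finset.mem_insert, Finset.mem_singleton, not_or] at hj'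
      exact ⟨j', hj'⟩
    refine SignedIrr.eq_of_relation hE hF hEo hFo ?_ ?_ ?_ ?_ ?_ ?_ ?_ ?_ (hrel l j hl hj)
      (hrel l j' hl hj')
    · exact dLR hl
    · exact dLM hj
    · exact dLR hl
    · exact dLM hj'
    · exact dRR hjj.symm
    · exact dRM hl
    · exact (dRM hl).symm
    · exact hx (Or.inr (Ne.symm hjj))
  have h2 : ∀ j, E (inr hW j) = F (inr hW j) := by
    intro j
    by_cases hj : j = 1
    · rw [hj, inr_one, hone]
    obtain ⟨l, hl⟩ := Fintype.exists_ne_of_one_lt_card (by omega : 1 < Fintype.card (W₁ →* ℂˣ)) 1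
    have h := hrel l j hl hj
    have e1 := h1 l
    obtain ⟨l', hl', hll⟩ : ∃ l', l' ≠ 1 ∧ l' ≠ l := by
      obtain ⟨l', hl'⟩ : ∃ l', l' ∉ ({1, l} : Finset (W₁ →* ℂˣ)) := by
        by_contra hcon
        push Not at hcon
        have := Finset.card_le_card (s := Finset.univ) (t := ({1, l} : Finset (W₁ →* ℂˣ)))
          fun a _ => hcon a
        have := Finset.card_le_two (a := (1 : W₁ →* ℂˣ)) (b := l)
        rw [Finset.card_univ] at *
        omega
      simp only [Finset.mem_insert, Finset.mem_singleton, not_or] at hl'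
      exact ⟨l', hl'⟩
    refine SignedIrr.eq_of_relation hE hF hEo hFo (y := inl hW l) (z := inl hW l * inr hW j)
      (y' := inl hW l') (z' := inl hW l' * inr hW j) ?_ ?_ ?_ ?_ ?_ ?_ ?_ ?_ ?_ ?_
    · exact (dLR hl).symm
    · exact dRM hl
    · exact (dLR hl').symm
    · exact dRM hl'
    · exact dLL hll.symm
    · exact dLM hj
    · exact (dLM hj).symm
    · exact hx (Or.inl (Ne.symm hll))
    · rw [add_comm, h, add_comm]
    · rw [add_comm, hrel l' j hl' hj, add_comm]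
  obtain ⟨l, j, rfl⟩ := exists_eq_mul hW ω
  by_cases hl : l = 1
  · rw [hl, inl_one, hom_one_mul]; exact h2 j
  by_cases hj : j = 1
  · rw [hj, inr_one, hom_mul_one]; exact h1 l
  have h := hrel l j hl hj
  rw [h1 l, h2 j] at h
  exact ((sub_right_inj).mp h).symm

set_option maxHeartbeats 400000 in
theorem exists_int (hodd : Odd (Nat.card ↥(W₁ ⊔ W₂))) (ω : ↥(W₁ ⊔ W₂) →* ℂˣ) (g : G)
    (hg : Nat.Coprime (orderOf g) (orderOf ω)) : ∃ n : ℤ, χ ω g = n := by
  suffices key : ∀ f : G → ℂ, Cfsg.IsIrrCharacter G f →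
      (∀ m : ℕ, m.Coprime (Nat.card G) → f (g ^ m) = f g) → ∃ n : ℤ, f g = n by
    have hpow : ∀ m : ℕ, m.Coprime (Nat.card G) → χ ω (g ^ m) = χ ω g := by
      intro m hm
      have hr : orderOf g ∣ Nat.card G := orderOf_dvd_natCard g
      have hs : orderOf ω ∣ Nat.card G := by
        refine (orderOf_dvd_of_pow_eq_one ?_).trans (Subgroup.card_subgroup_dvd_card (W₁ ⊔ W₂))
        ext w
        rw [MonoidHom.pow_apply, ← map_pow, pow_card_eq_one', map_one, MonoidHom.one_apply]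
      have hd : orderOf g * orderOf ω ∣ Nat.card G := hg.mul_dvd_of_dvd_of_dvd hr hs
      have hN : Nat.card G ≠ 0 := Nat.card_pos.ne'
      obtain ⟨k0, hk0g, hk0w⟩ := Nat.chineseRemainder hg m 1
      have hcop : k0.Coprime (orderOf g * orderOf ω) := by
        refine Nat.Coprime.mul_right ?_ ?_
        · rw [Nat.coprime_iff_gcd_eq_one, hk0g.gcd_eq]
          exact hm.coprime_dvd_right hr
        · rw [Nat.coprime_iff_gcd_eq_one, hk0w.gcd_eq]
          exact Nat.gcd_one_left _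
      have hne : NeZero (Nat.card G) := ⟨hN⟩
      obtain ⟨u, hu⟩ := ZMod.unitsMap_surjective hd (ZMod.unitOfCoprime k0 hcop)
      set k := (u : ZMod (Nat.card G)).val with hkdef
      have hkc : k.Coprime (Nat.card G) := ZMod.val_coe_unit_coprime u
      have hkk : k ≡ k0 [MOD orderOf g * orderOf ω] := by
        rw [← ZMod.natCast_eq_natCast_iff]
        have := congrArg Units.val hu
        rw [ZMod.unitsMap_val, ZMod.coe_unitOfCoprime] at this
        rw [← this, hkdef, ZMod.natCast_val]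
      have e1 : g ^ k = g ^ m :=
        pow_eq_pow_iff_modEq.mpr ((hkk.of_dvd (dvd_mul_right _ _)).trans hk0g)
      have e2 : ω ^ k = ω ^ 1 := by
        have h1 : k % orderOf ω = 1 % orderOf ω := (hkk.of_dvd (dvd_mul_left _ _)).trans hk0w
        rw [← pow_mod_orderOf ω k, ← pow_mod_orderOf ω 1, h1]
      rw [← e1]
      exact (congrFun (apply_pow hW hχ hodd hkc ω) g).trans (by rw [e2, pow_one])
    rcases hχ.irr_or_neg ω with h | h
    · exact key _ h hpow
    · obtain ⟨n, hn⟩ := key _ h fun m hm => by simp only [Pi.neg_apply, hpow m hm]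
      exact ⟨-n, by rw [Pi.neg_apply] at hn; push_cast; linear_combination -hn⟩
  intro f hf hpow
  obtain ⟨n, ρ, -, rfl⟩ := hf
  obtain ⟨q, hq⟩ := CharRational.exists_rat_of_apply_pow_eq ρ g hpow
  have hint := CharIntegral.isIntegral_of_isCharacter ⟨n, ρ, rfl⟩ g
  rw [hq] at hint
  have h2 : IsIntegral ℤ q :=
    (isIntegral_algHom_iff ((Algebra.ofId ℚ ℂ).restrictScalars ℤ)
      (algebraMap ℚ ℂ).injective).mp hint
  obtain ⟨z, hz⟩ := IsIntegrallyClosed.isIntegral_iff.mp h2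
  exact ⟨z, by rw [hq, ← hz]; simp⟩

end CfsgLib.CyclicTI
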