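import Cfsg.Agent.Lib.Char.CyclicTI.Basic
import Cfsg.Prelude.Def_OddOrderChar

/-!
# Properties of a cyclic TI family
-/

set_option autoImplicit false

namespace CfsgLib.CyclicTI

open CfsgLib.Char
open scoped ComplexConjugate

variable {G : Type*} [Group G] [Fintype G] {W₁ W₂ : Subgroup G}
  (hW : Cfsg.IsSelfNormalizingCyclic W₁ W₂)
  {χ : (↥(W₁ ⊔ W₂) →* ℂˣ) → (G → ℂ)}

include hW

theorem inner_indFun_indFun [Fintype ↥(W₁ ⊔ W₂)] {φ φ' ψ ψ' : ↥(W₁ ⊔ W₂) →* ℂˣ}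
    (hφ : ∀ w : ↥(W₁ ⊔ W₂), (w : G) ∈ W₂ → φ w = 1)
    (hψ : ∀ w : ↥(W₁ ⊔ W₂), (w : G) ∈ W₁ → ψ w = 1)
    (hφ' : ∀ w : ↥(W₁ ⊔ W₂), (w : G) ∈ W₂ → φ' w = 1)
    (hψ' : ∀ w : ↥(W₁ ⊔ W₂), (w : G) ∈ W₁ → ψ' w = 1) :
    Cfsg.classInner (Cfsg.indFun (W₁ ⊔ W₂) (alpha φ ψ)) (Cfsg.indFun (W₁ ⊔ W₂) (alpha φ' ψ')) =
      Cfsg.classInner (alpha φ ψ) (alpha φ' ψ') := by
  have hoff : ∀ φ ψ : ↥(W₁ ⊔ W₂) →* ℂˣ, (∀ w : ↥(W₁ ⊔ W₂), (w : G) ∈ W₂ → φ w = 1) →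
      (∀ w : ↥(W₁ ⊔ W₂), (w : G) ∈ W₁ → ψ w = 1) → ∀ w : ↥(W₁ ⊔ W₂),
      (w : G) ∉ ((W₁ ⊔ W₂ : Subgroup G) : Set G) \ (↑W₁ ∪ ↑W₂) → alpha φ ψ w = 0 :=
    fun φ ψ h1 h2 w hw => alpha_eq_zero h1 h2 (by
      simp only [Set.mem_sdiff, SetLike.mem_coe, Set.mem_union, w.2, true_and, not_not] at hw
      exact hw)
  exact Exceptional.ti_indFun_inner (ti hW) (hoff φ ψ hφ hψ) (isClassFunction_alpha hW φ' ψ')
    (hoff φ' ψ' hφ' hψ')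

omit hW in
open scoped Classical in
theorem inner_alpha_alpha [Fintype ↥(W₁ ⊔ W₂)] {φ φ' ψ ψ' : ↥(W₁ ⊔ W₂) →* ℂˣ}
    (hφ : ∀ w : ↥(W₁ ⊔ W₂), (w : G) ∈ W₂ → φ w = 1)
    (hψ : ∀ w : ↥(W₁ ⊔ W₂), (w : G) ∈ W₁ → ψ w = 1)
    (hφ' : ∀ w : ↥(W₁ ⊔ W₂), (w : G) ∈ W₂ → φ' w = 1)
    (hψ' : ∀ w : ↥(W₁ ⊔ W₂), (w : G) ∈ W₁ → ψ' w = 1)
    (h1 : φ ≠ 1) (h2 : ψ ≠ 1) (h1' : φ' ≠ 1) (h2' : ψ' ≠ 1) :
    Cfsg.classInner (alpha φ ψ) (alpha φ' ψ') =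
      1 + (if φ = φ' then 1 else 0) + (if ψ = ψ' then 1 else 0) +
        (if φ = φ' then 1 else 0) * (if ψ = ψ' then 1 else 0) := by
  have one2 : ∀ w : ↥(W₁ ⊔ W₂), (w : G) ∈ W₂ → (1 : ↥(W₁ ⊔ W₂) →* ℂˣ) w = 1 := fun _ _ => rfl
  have one1 : ∀ w : ↥(W₁ ⊔ W₂), (w : G) ∈ W₁ → (1 : ↥(W₁ ⊔ W₂) →* ℂˣ) w = 1 := fun _ _ => rfl
  have E := fun (a b : ↥(W₁ ⊔ W₂) →* ℂˣ) (ha : ∀ w : ↥(W₁ ⊔ W₂), (w : G) ∈ W₂ → a w = 1)
    (hb : ∀ w : ↥(W₁ ⊔ W₂), (w : G) ∈ W₁ → b w = 1) (a' b' : ↥(W₁ ⊔ W₂) →* ℂˣ)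
    (ha' : ∀ w : ↥(W₁ ⊔ W₂), (w : G) ∈ W₂ → a' w = 1)
    (hb' : ∀ w : ↥(W₁ ⊔ W₂), (w : G) ∈ W₁ → b' w = 1) => mul_eq_mul_iff ha ha' hb hb'
  have key : ∀ (a b : ↥(W₁ ⊔ W₂) →* ℂˣ), (∀ w : ↥(W₁ ⊔ W₂), (w : G) ∈ W₂ → a w = 1) →
      (∀ w : ↥(W₁ ⊔ W₂), (w : G) ∈ W₁ → b w = 1) →
      Cfsg.classInner (alpha φ ψ) (fun w => ((a * b) w : ℂ)) =
        (if 1 = a then 1 else 0) * (if 1 = b then 1 else 0) -
        (if φ = a then 1 else 0) * (if 1 = b then 1 else 0) -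
        (if 1 = a then 1 else 0) * (if ψ = b then 1 else 0) +
        (if φ = a then 1 else 0) * (if ψ = b then 1 else 0) := by
    intro a b ha hb
    rw [inner_alpha]
    have q1 := E 1 1 one2 one1 a b ha hb
    have q2 := E φ 1 hφ one1 a b ha hb
    have q3 := E 1 ψ one2 hψ a b ha hb
    have q4 := E φ ψ hφ hψ a b ha hb
    rw [hom_one_mul] at q1 q3
    rw [hom_mul_one] at q2
    have hi : ∀ (A B : Prop) [Decidable A] [Decidable B],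
        (if A ∧ B then (1 : ℂ) else 0) = (if A then 1 else 0) * (if B then 1 else 0) := by
      intro A B _ _
      by_cases hA : A <;> by_cases hB : B <;> simp [hA, hB]
    rw [if_congr q1 rfl rfl, if_congr q2 rfl rfl, if_congr q3 rfl rfl, if_congr q4 rfl rfl,
      hi, hi, hi, hi]
  have k1 := key 1 1 one2 one1
  have k2 := key φ' 1 hφ' one1
  have k3 := key 1 ψ' one2 hψ'
  have k4 := key φ' ψ' hφ' hψ'
  simp only [hom_one_mul, hom_mul_one] at k1 k2 k3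
  have hexp : alpha φ' ψ' = (fun w => ((1 : ↥(W₁ ⊔ W₂) →* ℂˣ) w : ℂ)) - (fun w => (φ' w : ℂ)) -
      (fun w => (ψ' w : ℂ)) + fun w => ((φ' * ψ') w : ℂ) := by
    funext w; simp [alpha]
  rw [hexp, classInner_add_right, classInner_sub_right, classInner_sub_right, k1, k2, k3, k4]
  simp only [if_neg h1, if_neg h2, if_neg h1', if_neg h2', if_neg h1.symm, if_neg h2.symm,
    if_neg h1'.symm, if_neg h2'.symm, if_true, eq_self_iff_true]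
  ring

variable (hχ : Cfsg.IsCyclicTIFamily W₁ W₂ χ)

include hχ

theorem inner_relation {θ : G → ℂ} (hθ : Cfsg.IsClassFunction G θ)
    (hθV : ∀ w : ↥(W₁ ⊔ W₂), (w : G) ∉ W₁ → (w : G) ∉ W₂ → θ w = 0)
    {φ ψ : ↥(W₁ ⊔ W₂) →* ℂˣ} (hφ : ∀ w : ↥(W₁ ⊔ W₂), (w : G) ∈ W₂ → φ w = 1)
    (hψ : ∀ w : ↥(W₁ ⊔ W₂), (w : G) ∈ W₁ → ψ w = 1) :
    Cfsg.classInner θ (χ (φ * ψ)) =
      Cfsg.classInner θ (χ φ) + Cfsg.classInner θ (χ ψ) - Cfsg.classInner θ (χ 1) := by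
  classical
  have := Fintype.ofFinite ↥(W₁ ⊔ W₂)
  by_cases h1 : φ = 1
  · rw [h1, hom_one_mul]; ring
  by_cases h2 : ψ = 1
  · rw [h2, hom_mul_one]; ring
  have h : Cfsg.classInner θ (Cfsg.indFun (W₁ ⊔ W₂) (alpha φ ψ)) = 0 := by
    rw [inner_indFun_alpha hθ]
    simp only [Cfsg.classInner]
    rw [Finset.sum_eq_zero, mul_zero]
    intro w _
    by_cases hw : (w : G) ∈ W₁ ∨ (w : G) ∈ W₂
    · rw [alpha_eq_zero hφ hψ hw, map_zero, mul_zero]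
    · push Not at hw
      rw [hθV w hw.1 hw.2, zero_mul]
  have e : Cfsg.indFun (W₁ ⊔ W₂) (alpha φ ψ) = χ 1 - χ φ - χ ψ + χ (φ * ψ) := by
    refine (hχ.induced_eq φ ψ h1 h2 hφ hψ).trans ?_
    funext g
    simp [hχ.map_one]
  rw [e, classInner_add_right, classInner_sub_right, classInner_sub_right] at h
  linear_combination h

/-- A class function orthogonal to the family vanishes on the regular elements. -/
theorem eq_zero_of_orth {θ : G → ℂ} (hθ : Cfsg.IsClassFunction G θ)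
    (horth : ∀ ω, Cfsg.classInner θ (χ ω) = 0) (w : ↥(W₁ ⊔ W₂)) (hw₁ : (w : G) ∉ W₁)
    (hw₂ : (w : G) ∉ W₂) : θ w = 0 := by
  classical
  have := Fintype.ofFinite ↥(W₁ ⊔ W₂)
  have h0 := eq_zero_of_inner_alpha hW
    (f := fun v : ↥(W₁ ⊔ W₂) => if (v : G) ∈ W₁ ∨ (v : G) ∈ W₂ then 0 else θ v)
    (fun v hv => if_pos hv) fun l k => by
      have hz : Cfsg.classInner θ (Cfsg.indFun (W₁ ⊔ W₂) (alpha (inl hW l) (inr hW k))) = 0 := by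
        by_cases h1 : inl hW l = 1
        · rw [inner_indFun_alpha hθ, h1]
          simp [Cfsg.classInner, alpha]
        by_cases h2 : inr hW k = 1
        · rw [inner_indFun_alpha hθ, h2]
          simp [Cfsg.classInner, alpha]
        have e : Cfsg.indFun (W₁ ⊔ W₂) (alpha (inl hW l) (inr hW k)) =
            χ 1 - χ (inl hW l) - χ (inr hW k) + χ (inl hW l * inr hW k) := by
          refine (hχ.induced_eq _ _ h1 h2 (inl_apply_W₂ hW l) (inr_apply_W₁ hW k)).trans ?_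
          funext g
          simp [hχ.map_one]
        rw [e, classInner_add_right, classInner_sub_right, classInner_sub_right]
        simp [horth]
      rw [inner_indFun_alpha hθ] at hz
      refine Eq.trans ?_ hz
      simp only [Cfsg.classInner]
      congr 1
      refine Finset.sum_congr rfl fun v _ => ?_
      by_cases hv : (v : G) ∈ W₁ ∨ (v : G) ∈ W₂
      · rw [alpha_eq_zero (inl_apply_W₂ hW l) (inr_apply_W₁ hW k) hv, map_zero, mul_zero, mul_zero]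
      · rw [if_neg hv]
  have h1 := congrFun h0 w
  rwa [if_neg (by rintro (h | h) <;> contradiction), Pi.zero_apply] at h1

end CfsgLib.CyclicTI
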