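import Cfsg.Agent.Lib.Char.AbelianInertia
import Cfsg.Agent.Lib.Char.Exceptional.TISet
import Cfsg.Agent.Lib.Char.Exceptional.Quaternion
import Cfsg.Prelude.Def_OddOrderLocal

/-!
# The linear characters of `W = W₁ × W₂` and the functions `(1 - φ) (1 - ψ)`
-/

set_option autoImplicit false

namespace CfsgLib.CyclicTI

open CfsgLib.Char
open scoped ComplexConjugate

section Linear

theorem hom_one_mul {A M : Type*} [MulOneClass A] [CommMonoid M] (f : A →* M) :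
    (1 : A →* M) * f = f := MonoidHom.ext fun _ => one_mul _

theorem hom_mul_one {A M : Type*} [MulOneClass A] [CommMonoid M] (f : A →* M) :
    f * (1 : A →* M) = f := MonoidHom.ext fun _ => mul_one _

theorem inner_linear {A : Type*} [Group A] [Fintype A] (l l' : A →* ℂˣ) [Decidable (l = l')] :
    Cfsg.classInner (fun a => (l a : ℂ)) (fun a => (l' a : ℂ)) = if l = l' then 1 else 0 := by
  split_ifs with h
  · subst h
    exact classInner_irr_self ⟨_, isIrrCharacter_linear l⟩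
  · exact classInner_irr_of_ne (χ := ⟨_, isIrrCharacter_linear l⟩)
      (ψ := ⟨_, isIrrCharacter_linear l'⟩) fun e =>
        h (MonoidHom.ext fun a => Units.ext (congrFun (congrArg Subtype.val e) a))

theorem finite_hom (A : Type*) [Group A] [Finite A] : Finite (A →* ℂˣ) :=
  Finite.of_injective (fun l => (⟨_, isIrrCharacter_linear l⟩ : Cfsg.IrrCharacter A))
    fun _ _ h => MonoidHom.ext fun a => Units.ext (congrFun (congrArg Subtype.val h) a)

/-- For a commutative group the linear characters are all the irreducible ones. -/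
theorem linear_bijective {A : Type*} [Group A] [Finite A] (hA : ∀ a b : A, a * b = b * a) :
    Function.Bijective fun l : A →* ℂˣ => (⟨_, isIrrCharacter_linear l⟩ : Cfsg.IrrCharacter A) := by
  refine ⟨fun _ _ h => MonoidHom.ext fun a => Units.ext (congrFun (congrArg Subtype.val h) a),
    fun χ => ?_⟩
  obtain ⟨l, hl⟩ := exists_linear_of_degree_one (IsIrr.isCharacter χ.2)
    (CfsgLib.Clifford.apply_one_eq_one_of_commute hA χ)
  exact ⟨l, Subtype.ext hl.symm⟩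

theorem card_hom {A : Type*} [Group A] [Finite A] (hA : ∀ a b : A, a * b = b * a) :
    Nat.card (A →* ℂˣ) = Nat.card A := by
  rw [Nat.card_eq_of_bijective _ (linear_bijective hA), card_irrCharacter]
  refine (Nat.card_eq_of_bijective ConjClasses.mk ⟨fun a b h => ?_, ConjClasses.mk_surjective⟩).symm
  obtain ⟨c, hc⟩ := isConj_iff.mp (ConjClasses.mk_eq_mk_iff_isConj.mp h)
  rwa [hA c a, mul_inv_cancel_right] at hc

theorem sum_hom_apply {A : Type*} [Group A] [Finite A] [Fintype (A →* ℂˣ)]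
    (hA : ∀ a b : A, a * b = b * a) (a b : A) [Decidable (a = b)] :
    ∑ l : A →* ℂˣ, (l a : ℂ) * conj (l b : ℂ) = if a = b then (Nat.card A : ℂ) else 0 := by
  classical
  have := Fintype.ofFinite (Cfsg.IrrCharacter A)
  rw [(linear_bijective hA).sum_comp fun χ : Cfsg.IrrCharacter A =>
    (χ : A → ℂ) a * conj ((χ : A → ℂ) b), column_orthogonality]
  by_cases h : a = b
  · rw [if_pos (h ▸ IsConj.refl _), if_pos h, show Subgroup.centralizer ({a} : Set A) = ⊤ from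
      eq_top_iff.mpr fun z _ => Subgroup.mem_centralizer_singleton_iff.mpr (hA z a),
      Subgroup.card_top]
  · rw [if_neg h, if_neg fun hc => h ?_]
    obtain ⟨c, hc'⟩ := isConj_iff.mp hc
    rwa [hA c a, mul_inv_cancel_right] at hc'

end Linear

variable {G : Type*} [Group G] {W₁ W₂ : Subgroup G}

/-- The function `(1 - φ)(1 - ψ)`. -/
def alpha (φ ψ : ↥(W₁ ⊔ W₂) →* ℂˣ) : ↥(W₁ ⊔ W₂) → ℂ :=
  fun w => 1 - (φ w : ℂ) - (ψ w : ℂ) + (φ w : ℂ) * (ψ w : ℂ)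

theorem hom_ext_sup {M : Type*} [Monoid M] {f g : ↥(W₁ ⊔ W₂) →* M}
    (h1 : ∀ w : ↥(W₁ ⊔ W₂), (w : G) ∈ W₁ → f w = g w)
    (h2 : ∀ w : ↥(W₁ ⊔ W₂), (w : G) ∈ W₂ → f w = g w) : f = g := by
  refine MonoidHom.ext fun ⟨w, hw⟩ => ?_
  have key : W₁ ⊔ W₂ ≤ ((f.eqLocus g).map (W₁ ⊔ W₂).subtype) := sup_le
    (fun a ha => ⟨⟨a, Subgroup.mem_sup_left ha⟩, h1 _ ha, rfl⟩)
    (fun a ha => ⟨⟨a, Subgroup.mem_sup_right ha⟩, h2 _ ha, rfl⟩)
  obtain ⟨y, hy, hyw⟩ := key hw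
  have : y = ⟨w, hw⟩ := Subtype.ext hyw
  exact this ▸ hy

section Alpha

variable {φ φ' ψ ψ' : ↥(W₁ ⊔ W₂) →* ℂˣ}

theorem mul_eq_mul_iff (hφ : ∀ w : ↥(W₁ ⊔ W₂), (w : G) ∈ W₂ → φ w = 1)
    (hφ' : ∀ w : ↥(W₁ ⊔ W₂), (w : G) ∈ W₂ → φ' w = 1)
    (hψ : ∀ w : ↥(W₁ ⊔ W₂), (w : G) ∈ W₁ → ψ w = 1)
    (hψ' : ∀ w : ↥(W₁ ⊔ W₂), (w : G) ∈ W₁ → ψ' w = 1) :
    φ * ψ = φ' * ψ' ↔ φ = φ' ∧ ψ = ψ' := by
  refine ⟨fun h => ⟨hom_ext_sup (fun w hw => ?_) (fun w hw => by rw [hφ w hw, hφ' w hw]),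
    hom_ext_sup (fun w hw => by rw [hψ w hw, hψ' w hw]) (fun w hw => ?_)⟩,
    fun h => by rw [h.1, h.2]⟩
  · have h1 := congrArg (fun f => f w) h
    simpa [hψ w hw, hψ' w hw] using h1
  · have h1 := congrArg (fun f => f w) h
    simpa [hφ w hw, hφ' w hw] using h1

open scoped Classical in
theorem inner_alpha [Fintype ↥(W₁ ⊔ W₂)] (ω : ↥(W₁ ⊔ W₂) →* ℂˣ) :
    Cfsg.classInner (alpha φ ψ) (fun w => (ω w : ℂ)) =
      (if 1 = ω then 1 else 0) - (if φ = ω then 1 else 0) - (if ψ = ω then 1 else 0) +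
        (if φ * ψ = ω then 1 else 0) := by
  rw [← inner_linear, ← inner_linear, ← inner_linear, ← inner_linear]
  simp only [Cfsg.classInner, alpha, ← mul_sub, ← mul_add, ← Finset.sum_sub_distrib,
    ← Finset.sum_add_distrib, MonoidHom.one_apply, MonoidHom.mul_apply, Units.val_one, Units.val_mul]
  congr 1
  exact Finset.sum_congr rfl fun w _ => by ring

theorem alpha_eq_zero (hφ : ∀ w : ↥(W₁ ⊔ W₂), (w : G) ∈ W₂ → φ w = 1)
    (hψ : ∀ w : ↥(W₁ ⊔ W₂), (w : G) ∈ W₁ → ψ w = 1) {w : ↥(W₁ ⊔ W₂)}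
    (hw : (w : G) ∈ W₁ ∨ (w : G) ∈ W₂) : alpha φ ψ w = 0 := by
  rcases hw with h | h
  · rw [alpha, hψ w h, Units.val_one]; ring
  · rw [alpha, hφ w h, Units.val_one]; ring

end Alpha

section TI

variable (hW : Cfsg.IsSelfNormalizingCyclic W₁ W₂)

include hW

theorem W_comm : ∀ a b : ↥(W₁ ⊔ W₂), a * b = b * a := by
  have := hW.2.2.2.2.1
  exact fun a b => (IsCyclic.commGroup (α := ↥(W₁ ⊔ W₂))).mul_comm a b

theorem exists_mul (w : ↥(W₁ ⊔ W₂)) : ∃ a ∈ W₁, ∃ b ∈ W₂, a * b = (w : G) := by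
  have hle : W₂ ≤ Subgroup.normalizer (W₁ : Set G) := fun b hb => by
    refine Subgroup.centralizer_le_normalizer _ (Subgroup.mem_centralizer_iff.mpr fun a ha => ?_)
    exact hW.2.2.2.1 a ha b hb
  have h : (w : G) ∈ ((W₁ ⊔ W₂ : Subgroup G) : Set G) := w.2
  rw [Subgroup.coe_mul_of_right_le_normalizer_left _ _ hle] at h
  obtain ⟨a, ha, b, hb, e⟩ := h
  exact ⟨a, ha, b, hb, e⟩

/-- `W₁ × W₂ ≅ W₁ ⊔ W₂`. -/
noncomputable def prodEquiv : W₁ × W₂ ≃* ↥(W₁ ⊔ W₂) :=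
  MulEquiv.ofBijective (MonoidHom.noncommCoprod (Subgroup.inclusion le_sup_left)
    (Subgroup.inclusion le_sup_right) fun a b => Subtype.ext (hW.2.2.2.1 a a.2 b b.2)) <| by
    refine ⟨?_, fun w => ?_⟩
    · rw [injective_iff_map_eq_one]
      rintro ⟨a, b⟩ h
      have h1 : (a : G) * b = 1 := congrArg Subtype.val h
      have h2 : (a : G) ∈ W₁ ⊓ W₂ := ⟨a.2, by
        rw [eq_inv_of_mul_eq_one_left h1]; exact W₂.inv_mem b.2⟩
      rw [hW.2.2.1, Subgroup.mem_bot] at h2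
      rw [h2, one_mul] at h1
      exact Prod.ext (Subtype.ext h2) (Subtype.ext h1)
    · obtain ⟨a, ha, b, hb, e⟩ := exists_mul hW w
      exact ⟨(⟨a, ha⟩, ⟨b, hb⟩), Subtype.ext e⟩

theorem coe_prodEquiv (p : W₁ × W₂) : ((prodEquiv hW p : ↥(W₁ ⊔ W₂)) : G) = (p.1 : G) * p.2 := rfl

/-- Projection to `W₁`. -/
noncomputable def proj₁ : ↥(W₁ ⊔ W₂) →* W₁ :=
  (MonoidHom.fst W₁ W₂).comp (prodEquiv hW).symm.toMonoidHom

/-- Projection to `W₂`. -/
noncomputable def proj₂ : ↥(W₁ ⊔ W₂) →* W₂ :=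
  (MonoidHom.snd W₁ W₂).comp (prodEquiv hW).symm.toMonoidHom

theorem proj_mul (w : ↥(W₁ ⊔ W₂)) : ((proj₁ hW w : G)) * (proj₂ hW w : G) = w := by
  rw [← coe_prodEquiv hW (proj₁ hW w, proj₂ hW w)]
  exact congrArg Subtype.val ((prodEquiv hW).apply_symm_apply w)

theorem proj_prodEquiv (p : W₁ × W₂) :
    proj₁ hW (prodEquiv hW p) = p.1 ∧ proj₂ hW (prodEquiv hW p) = p.2 :=
  ⟨congrArg Prod.fst ((prodEquiv hW).symm_apply_apply p),
    congrArg Prod.snd ((prodEquiv hW).symm_apply_apply p)⟩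

theorem proj₁_eq_one_iff (w : ↥(W₁ ⊔ W₂)) : proj₁ hW w = 1 ↔ (w : G) ∈ W₂ := by
  refine ⟨fun h => ?_, fun h => ?_⟩
  · rw [← proj_mul hW w, h, OneMemClass.coe_one, one_mul]
    exact (proj₂ hW w).2
  · have e : w = prodEquiv hW (1, ⟨w, h⟩) := Subtype.ext (by simp [coe_prodEquiv])
    rw [e]; exact (proj_prodEquiv hW _).1

theorem proj₂_eq_one_iff (w : ↥(W₁ ⊔ W₂)) : proj₂ hW w = 1 ↔ (w : G) ∈ W₁ := by
  refine ⟨fun h => ?_, fun h => ?_⟩
  · rw [← proj_mul hW w, h, OneMemClass.coe_one, mul_one]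
    exact (proj₁ hW w).2
  · have e : w = prodEquiv hW (⟨w, h⟩, 1) := Subtype.ext (by simp [coe_prodEquiv])
    rw [e]; exact (proj_prodEquiv hW _).2

/-- The character with given components on the two factors. -/
noncomputable def inl (l : W₁ →* ℂˣ) : ↥(W₁ ⊔ W₂) →* ℂˣ := l.comp (proj₁ hW)

/-- The character with given components on the two factors. -/
noncomputable def inr (k : W₂ →* ℂˣ) : ↥(W₁ ⊔ W₂) →* ℂˣ := k.comp (proj₂ hW)

theorem inl_apply_W₂ (l : W₁ →* ℂˣ) (w : ↥(W₁ ⊔ W₂)) (hw : (w : G) ∈ W₂) : inl hW l w = 1 := by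
  rw [inl, MonoidHom.comp_apply, (proj₁_eq_one_iff hW w).mpr hw, map_one]

theorem inr_apply_W₁ (k : W₂ →* ℂˣ) (w : ↥(W₁ ⊔ W₂)) (hw : (w : G) ∈ W₁) : inr hW k w = 1 := by
  rw [inr, MonoidHom.comp_apply, (proj₂_eq_one_iff hW w).mpr hw, map_one]

theorem inl_injective : Function.Injective (inl hW) := fun l l' h => MonoidHom.ext fun a => by
  have := congrArg (fun f => f (prodEquiv hW (a, 1))) h
  simpa [inl, (proj_prodEquiv hW (a, 1)).1] using this

theorem inr_injective : Function.Injective (inr hW) := fun l l' h => MonoidHom.ext fun a => by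
  have := congrArg (fun f => f (prodEquiv hW (1, a))) h
  simpa [inr, (proj_prodEquiv hW (1, a)).2] using this

theorem inl_one : inl hW 1 = 1 := rfl

theorem inr_one : inr hW 1 = 1 := rfl

theorem exists_inl {φ : ↥(W₁ ⊔ W₂) →* ℂˣ} (hφ : ∀ w : ↥(W₁ ⊔ W₂), (w : G) ∈ W₂ → φ w = 1) :
    ∃ l, inl hW l = φ := by
  refine ⟨φ.comp (Subgroup.inclusion le_sup_left), hom_ext_sup (fun w hw => ?_)
    (fun w hw => by rw [inl_apply_W₂ hW _ w hw, hφ w hw])⟩
  have e : (proj₁ hW w : G) = w := by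
    have := proj_mul hW w
    rwa [(proj₂_eq_one_iff hW w).mpr hw, OneMemClass.coe_one, mul_one] at this
  exact congrArg φ (Subtype.ext e)

theorem exists_inr {ψ : ↥(W₁ ⊔ W₂) →* ℂˣ} (hψ : ∀ w : ↥(W₁ ⊔ W₂), (w : G) ∈ W₁ → ψ w = 1) :
    ∃ k, inr hW k = ψ := by
  refine ⟨ψ.comp (Subgroup.inclusion le_sup_right), hom_ext_sup
    (fun w hw => by rw [inr_apply_W₁ hW _ w hw, hψ w hw]) (fun w hw => ?_)⟩
  have e : (proj₂ hW w : G) = w := by
    have := proj_mul hW w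
    rwa [(proj₁_eq_one_iff hW w).mpr hw, OneMemClass.coe_one, one_mul] at this
  exact congrArg ψ (Subtype.ext e)

/-- Every linear character of `W` factors. -/
theorem exists_eq_mul (ω : ↥(W₁ ⊔ W₂) →* ℂˣ) : ∃ l k, inl hW l * inr hW k = ω := by
  refine ⟨ω.comp (Subgroup.inclusion le_sup_left), ω.comp (Subgroup.inclusion le_sup_right),
    MonoidHom.ext fun w => ?_⟩
  show ω (Subgroup.inclusion le_sup_left (proj₁ hW w)) *
    ω (Subgroup.inclusion le_sup_right (proj₂ hW w)) = ω w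
  rw [← map_mul]
  exact congrArg ω (Subtype.ext (proj_mul hW w))

theorem mul_inj {l l' : W₁ →* ℂˣ} {k k' : W₂ →* ℂˣ}
    (h : inl hW l * inr hW k = inl hW l' * inr hW k') : l = l' ∧ k = k' := by
  obtain ⟨h1, h2⟩ := (mul_eq_mul_iff (inl_apply_W₂ hW l) (inl_apply_W₂ hW l')
    (inr_apply_W₁ hW k) (inr_apply_W₁ hW k')).mp h
  exact ⟨inl_injective hW h1, inr_injective hW h2⟩

/-- Conjugates of regular elements of `W` by elements outside `W` are not regular. -/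
theorem ti [Finite G] : ∀ g : G, g ∉ (W₁ ⊔ W₂ : Subgroup G) →
    ∀ s ∈ ((W₁ ⊔ W₂ : Subgroup G) : Set G) \ (↑W₁ ∪ ↑W₂),
      g * s * g⁻¹ ∉ ((W₁ ⊔ W₂ : Subgroup G) : Set G) \ (↑W₁ ∪ ↑W₂) := by
  intro g hg s hs hgs
  set V := ((W₁ ⊔ W₂ : Subgroup G) : Set G) \ (↑W₁ ∪ ↑W₂) with hV
  have hcyc := hW.2.2.2.2.1
  have hC : ∀ v ∈ V, Subgroup.centralizer ({v} : Set G) = W₁ ⊔ W₂ := fun v hv => by
    have h1 := hW.2.2.2.2.2 {v} (Set.singleton_subset_iff.mpr hv) (Set.singleton_nonempty v)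
    rw [← h1]
    ext x
    rw [Subgroup.mem_centralizer_singleton_iff, Subgroup.mem_set_normalizer_iff]
    constructor
    · intro hx h
      have e : x * v * x⁻¹ = v := by rw [hx, mul_inv_cancel_right]
      rw [Set.mem_singleton_iff, Set.mem_singleton_iff]
      refine ⟨fun hh => hh ▸ e, fun hh => ?_⟩
      calc h = x⁻¹ * (x * h * x⁻¹) * x := by group
        _ = x⁻¹ * (x * v * x⁻¹) * x := by rw [hh, e]
        _ = v := by group
    · intro hx
      have e : x * v * x⁻¹ = v := Set.mem_singleton_iff.mp ((hx v).mp rfl)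
      rwa [mul_inv_eq_iff_eq_mul] at e
  have hnorm : ∀ x ∈ (W₁ ⊔ W₂ : Subgroup G), g * x * g⁻¹ ∈ (W₁ ⊔ W₂ : Subgroup G) := by
    intro x hx
    rw [← hC _ hgs, Subgroup.mem_centralizer_singleton_iff]
    rw [← hC _ hs, Subgroup.mem_centralizer_singleton_iff] at hx
    calc g * x * g⁻¹ * (g * s * g⁻¹) = g * (x * s) * g⁻¹ := by group
      _ = g * (s * x) * g⁻¹ := by rw [hx]
      _ = _ := by group
  have hsub : ∀ U : Subgroup G, U ≤ W₁ ⊔ W₂ → ∀ x, g * x * g⁻¹ ∈ U ↔ x ∈ U := by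
    intro U hU
    have key : ∀ x ∈ U, g * x * g⁻¹ ∈ U := by
      intro x hx
      let U' : Subgroup ↥(W₁ ⊔ W₂) := U.subgroupOf (W₁ ⊔ W₂)
      have hpow : x ^ Nat.card U = 1 :=
        orderOf_dvd_iff_pow_eq_one.mp (Subgroup.orderOf_dvd_natCard _ hx)
      exact CfsgLib.Char.Exceptional.mem_of_pow_card_eq_one (A := W₁ ⊔ W₂) (K := U) hU
        (hnorm x (hU hx)) (by rw [conj_pow, hpow, mul_one, mul_inv_cancel])
    refine fun x => ⟨fun h => ?_, key x⟩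
    have hmap : U.map (MulAut.conj g).toMonoidHom = U := by
      refine Subgroup.eq_of_le_of_card_ge ?_ ?_
      · rintro _ ⟨y, hy, rfl⟩; exact key y hy
      · exact (Nat.card_congr (Subgroup.equivMapOfInjective _ _
          (MulAut.conj g).injective).toEquiv).le
    rw [← hmap] at h
    obtain ⟨y, hy, hye⟩ := h
    have : y = x := by
      have h2 : g * y * g⁻¹ = g * x * g⁻¹ := hye
      exact mul_left_cancel (mul_right_cancel h2)
    exact this ▸ hy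
  refine hg ?_
  rw [← hW.2.2.2.2.2 V subset_rfl ⟨s, hs⟩, Subgroup.mem_set_normalizer_iff]
  intro x
  simp only [hV, Set.mem_sdiff, Set.mem_union, SetLike.mem_coe,
    hsub _ le_rfl x, hsub W₁ le_sup_left x, hsub W₂ le_sup_right x]

variable [Fintype ↥(W₁ ⊔ W₂)]

/-- A function living on the regular elements and orthogonal to all `(1 - φ)(1 - ψ)` vanishes. -/
theorem eq_zero_of_inner_alpha [Finite G] {f : ↥(W₁ ⊔ W₂) → ℂ}
    (hoff : ∀ w : ↥(W₁ ⊔ W₂), ((w : G) ∈ W₁ ∨ (w : G) ∈ W₂) → f w = 0)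
    (h : ∀ l k, Cfsg.classInner f (alpha (inl hW l) (inr hW k)) = 0) : f = 0 := by
  classical
  funext v
  by_cases hv : (v : G) ∈ W₁ ∨ (v : G) ∈ W₂
  · exact hoff v hv
  push Not at hv
  have := finite_hom W₁
  have := finite_hom W₂
  have := Fintype.ofFinite (W₁ →* ℂˣ)
  have := Fintype.ofFinite (W₂ →* ℂˣ)
  have hc1 : ∀ a b : W₁, a * b = b * a := fun a b => by
    have := W_comm hW ⟨a, Subgroup.mem_sup_left a.2⟩ ⟨b, Subgroup.mem_sup_left b.2⟩
    exact Subtype.ext (congrArg Subtype.val this :)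
  have hc2 : ∀ a b : W₂, a * b = b * a := fun a b => by
    have := W_comm hW ⟨a, Subgroup.mem_sup_right a.2⟩ ⟨b, Subgroup.mem_sup_right b.2⟩
    exact Subtype.ext (congrArg Subtype.val this :)
  have hv1 : proj₁ hW v ≠ 1 := fun e => hv.2 ((proj₁_eq_one_iff hW v).mp e)
  have hv2 : proj₂ hW v ≠ 1 := fun e => hv.1 ((proj₂_eq_one_iff hW v).mp e)
  have hF : ∀ w, ∑ l : W₁ →* ℂˣ, ∑ k : W₂ →* ℂˣ,
      alpha (inl hW l) (inr hW k) w * conj ((inl hW l v : ℂ) * (inr hW k v : ℂ)) =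
        if w = v then (Nat.card W₁ : ℂ) * Nat.card W₂ else 0 := by
    intro w
    have e1 : ∑ l : W₁ →* ℂˣ, (1 - (inl hW l w : ℂ)) * conj (inl hW l v : ℂ) =
        -(if proj₁ hW w = proj₁ hW v then (Nat.card W₁ : ℂ) else 0) := by
      simp only [sub_mul, Finset.sum_sub_distrib]
      rw [show ∑ l : W₁ →* ℂˣ, (1 : ℂ) * conj (inl hW l v : ℂ) = 0 by
        have := sum_hom_apply hc1 1 (proj₁ hW v)
        rw [if_neg (Ne.symm hv1)] at this
        simp only [map_one, Units.val_one] at this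
        exact this, show ∑ l : W₁ →* ℂˣ, (inl hW l w : ℂ) * conj (inl hW l v : ℂ) =
          if proj₁ hW w = proj₁ hW v then (Nat.card W₁ : ℂ) else 0 from sum_hom_apply hc1 _ _,
        zero_sub]
    have e2 : ∑ k : W₂ →* ℂˣ, (1 - (inr hW k w : ℂ)) * conj (inr hW k v : ℂ) =
        -(if proj₂ hW w = proj₂ hW v then (Nat.card W₂ : ℂ) else 0) := by
      simp only [sub_mul, Finset.sum_sub_distrib]
      rw [show ∑ k : W₂ →* ℂˣ, (1 : ℂ) * conj (inr hW k v : ℂ) = 0 by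
        have := sum_hom_apply hc2 1 (proj₂ hW v)
        rw [if_neg (Ne.symm hv2)] at this
        simp only [map_one, Units.val_one] at this
        exact this, show ∑ k : W₂ →* ℂˣ, (inr hW k w : ℂ) * conj (inr hW k v : ℂ) =
          if proj₂ hW w = proj₂ hW v then (Nat.card W₂ : ℂ) else 0 from sum_hom_apply hc2 _ _,
        zero_sub]
    rw [Finset.sum_congr rfl (g := fun l => ((1 - (inl hW l w : ℂ)) * conj (inl hW l v : ℂ)) *
      ∑ k : W₂ →* ℂˣ, (1 - (inr hW k w : ℂ)) * conj (inr hW k v : ℂ)) fun l _ => by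
        rw [Finset.mul_sum]
        exact Finset.sum_congr rfl fun k _ => by rw [alpha, map_mul]; ring,
      ← Finset.sum_mul, e1, e2]
    by_cases hwv : w = v
    · simp [hwv]
    · rw [if_neg hwv]
      by_cases a1 : proj₁ hW w = proj₁ hW v
      · have a2 : proj₂ hW w ≠ proj₂ hW v := fun a2 =>
          hwv (Subtype.ext (by rw [← proj_mul hW w, ← proj_mul hW v, a1, a2]))
        simp [a2]
      · simp [a1]
  have h0 : ∑ l : W₁ →* ℂˣ, ∑ k : W₂ →* ℂˣ,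
      ((inl hW l v : ℂ) * (inr hW k v : ℂ)) * Cfsg.classInner f (alpha (inl hW l) (inr hW k)) = 0 := by
    simp [h]
  have h1 : ∑ l : W₁ →* ℂˣ, ∑ k : W₂ →* ℂˣ,
      ((inl hW l v : ℂ) * (inr hW k v : ℂ)) * Cfsg.classInner f (alpha (inl hW l) (inr hW k)) =
      (Nat.card ↥(W₁ ⊔ W₂) : ℂ)⁻¹ * ∑ w, f w * conj (∑ l : W₁ →* ℂˣ, ∑ k : W₂ →* ℂˣ,
        alpha (inl hW l) (inr hW k) w * conj ((inl hW l v : ℂ) * (inr hW k v : ℂ))) := by
    simp only [map_sum, Cfsg.classInner, Finset.mul_sum]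
    rw [eq_comm, Finset.sum_comm]
    refine Finset.sum_congr rfl fun l _ => ?_
    rw [Finset.sum_comm]
    refine Finset.sum_congr rfl fun k _ => Finset.sum_congr rfl fun w _ => ?_
    simp only [map_mul, Complex.conj_conj]
    ring
  simp only [hF, apply_ite conj, map_zero, mul_ite, mul_zero, Finset.sum_ite_eq', Finset.mem_univ,
    if_true] at h1
  rw [h0, map_mul, map_natCast, map_natCast] at h1
  have hne : (Nat.card ↥(W₁ ⊔ W₂) : ℂ)⁻¹ ≠ 0 := inv_ne_zero (Nat.cast_ne_zero.mpr Nat.card_pos.ne')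
  have hne1 : (Nat.card W₁ : ℂ) ≠ 0 := Nat.cast_ne_zero.mpr Nat.card_pos.ne'
  have hne2 : (Nat.card W₂ : ℂ) ≠ 0 := Nat.cast_ne_zero.mpr Nat.card_pos.ne'
  simpa [hne, hne1, hne2] using h1.symm

omit hW in
/-- Inner products of a class function with induced alphas only see the regular elements. -/
theorem inner_indFun_alpha [Fintype G] {φ ψ : ↥(W₁ ⊔ W₂) →* ℂˣ}
    {θ : G → ℂ} (hθ : Cfsg.IsClassFunction G θ) :
    Cfsg.classInner θ (Cfsg.indFun (W₁ ⊔ W₂) (alpha φ ψ)) =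
      Cfsg.classInner (fun w : ↥(W₁ ⊔ W₂) => θ w) (alpha φ ψ) := by
  rw [← classInner_conj_symm, frobenius_reciprocity _ _ hθ, classInner_conj_symm]

omit [Fintype ↥(W₁ ⊔ W₂)] in
theorem isClassFunction_alpha (φ ψ : ↥(W₁ ⊔ W₂) →* ℂˣ) :
    Cfsg.IsClassFunction ↥(W₁ ⊔ W₂) (alpha φ ψ) := fun g h => by
  rw [W_comm hW h g, mul_inv_cancel_right]

end TI

end CfsgLib.CyclicTI
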