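import Mathlib

/-!
# The rook configuration behind the cyclic TI isometry

Integer vectors `u i j` of norm `3`, with inner product `1` within a row or a column and `0`
otherwise, and all of weight `-1` for positive weights, are sums `x i + y j + z i j` of signed unit
vectors on pairwise distinct points.
-/

set_option autoImplicit false

namespace CfsgLib.CyclicTI

variable {E : Type*} [Fintype E] [DecidableEq E]

/-- Norm three and weight `-1`. -/
structure IsBlock (d : E → ℤ) (u : E → ℤ) : Prop where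
  norm : ∑ e, u e * u e = 3
  weight : ∑ e, d e * u e = -1

variable {d : E → ℤ} {u v w : E → ℤ}

omit [DecidableEq E] in
theorem IsBlock.eq_sign (hu : IsBlock d u) (e : E) : u e = -1 ∨ u e = 0 ∨ u e = 1 := by
  classical
  have h1 := Finset.single_le_sum (fun x _ => mul_self_nonneg (u x)) (Finset.mem_univ e)
  rw [hu.norm] at h1
  have : -1 ≤ u e ∧ u e ≤ 1 := ⟨by nlinarith, by nlinarith⟩
  omega

omit [DecidableEq E] in
/-- Two blocks with inner product one have no opposite entries. -/
theorem IsBlock.mul_nonneg (hd : ∀ e, 0 < d e) (hu : IsBlock d u) (hv : IsBlock d v)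
    (h : ∑ e, u e * v e = 1) (e : E) : 0 ≤ u e * v e := by
  classical
  by_contra hneg
  push Not at hneg
  have hsum : ∑ x, (u x - v x) * (u x - v x) = 4 := by
    have hx : ∀ x, (u x - v x) * (u x - v x) = u x * u x - 2 * (u x * v x) + v x * v x :=
      fun x => by ring
    simp only [hx, Finset.sum_add_distrib, Finset.sum_sub_distrib, ← Finset.mul_sum, hu.norm,
      hv.norm, h]
    norm_num
  have hw : ∑ x, d x * (u x - v x) = 0 := by
    simp only [mul_sub, Finset.sum_sub_distrib, hu.weight, hv.weight, sub_self]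
  have he : (u e - v e) * (u e - v e) = 4 := by
    rcases hu.eq_sign e with h1 | h1 | h1 <;> rcases hv.eq_sign e with h2 | h2 | h2 <;>
      simp [h1, h2] at hneg ⊢
  rw [← Finset.add_sum_erase _ _ (Finset.mem_univ e), he] at hsum
  have h0 : ∑ y ∈ Finset.univ.erase e, (u y - v y) * (u y - v y) = 0 := by linarith
  have hrest : ∀ x, x ≠ e → u x - v x = 0 := fun x hx => mul_self_eq_zero.mp
    ((Finset.sum_eq_zero_iff_of_nonneg fun y _ => mul_self_nonneg (u y - v y)).mp h0 x
      (Finset.mem_erase.mpr ⟨hx, Finset.mem_univ x⟩))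
  rw [Finset.sum_eq_single e (fun x _ hx => by rw [hrest x hx, mul_zero])
    (fun hh => absurd (Finset.mem_univ e) hh)] at hw
  rcases mul_eq_zero.mp hw with h3 | h3
  · exact (hd e).ne' h3
  · rw [h3] at he; norm_num at he

omit [DecidableEq E] in
theorem IsBlock.mul_eq_one (hd : ∀ e, 0 < d e) (hu : IsBlock d u) (hv : IsBlock d v)
    (h : ∑ e, u e * v e = 1) {e : E} (hue : u e ≠ 0) (hve : v e ≠ 0) : u e * v e = 1 := by
  have := hu.mul_nonneg hd hv h e
  rcases hu.eq_sign e with h1 | h1 | h1 <;> rcases hv.eq_sign e with h2 | h2 | h2 <;>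
    simp [h1, h2] at hue hve this ⊢

omit [DecidableEq E] in
theorem IsBlock.eq_of_both_ne (hd : ∀ e, 0 < d e) (hu : IsBlock d u) (hv : IsBlock d v)
    (h : ∑ e, u e * v e = 1) {e f : E} (hue : u e ≠ 0) (hve : v e ≠ 0) (huf : u f ≠ 0)
    (hvf : v f ≠ 0) : e = f := by
  classical
  by_contra hne
  have h1 : ∑ x ∈ ({e, f} : Finset E), u x * v x ≤ ∑ x, u x * v x :=
    Finset.sum_le_sum_of_subset_of_nonneg (Finset.subset_univ _) fun x _ _ => hu.mul_nonneg hd hv h x
  rw [Finset.sum_pair hne, hu.mul_eq_one hd hv h hue hve, hu.mul_eq_one hd hv h huf hvf, h] at h1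
  norm_num at h1

omit [DecidableEq E] in
theorem IsBlock.apply_eq (hd : ∀ e, 0 < d e) (hu : IsBlock d u) (hv : IsBlock d v)
    (h : ∑ e, u e * v e = 1) {e : E} (hue : u e ≠ 0) (hve : v e ≠ 0) : u e = v e := by
  have := hu.mul_eq_one hd hv h hue hve
  rcases hu.eq_sign e with h1 | h1 | h1 <;> rcases hv.eq_sign e with h2 | h2 | h2 <;>
    simp [h1, h2] at this ⊢

theorem exists_both_ne (h : ∑ e, u e * v e ≠ 0) : ∃ e, u e ≠ 0 ∧ v e ≠ 0 := by
  obtain ⟨e, -, he⟩ := Finset.exists_ne_zero_of_sum_ne_zero h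
  exact ⟨e, left_ne_zero_of_mul he, right_ne_zero_of_mul he⟩

theorem exists_other (h : ∑ e, u e * v e = 0) {x : E} (hu : u x ≠ 0) (hv : v x ≠ 0) :
    ∃ e, e ≠ x ∧ u e ≠ 0 ∧ v e ≠ 0 := by
  by_contra hno
  push Not at hno
  rw [Finset.sum_eq_single x (fun e _ he => by
      by_cases hue : u e = 0
      · rw [hue, zero_mul]
      · rw [hno e he hue, mul_zero])
    (fun hh => absurd (Finset.mem_univ x) hh)] at h
  exact mul_ne_zero hu hv h

omit [DecidableEq E] in
/-- At most three nonzero entries. -/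
theorem IsBlock.card_le (hu : IsBlock d u) (S : Finset E) (hS : ∀ e ∈ S, u e ≠ 0) :
    S.card ≤ 3 := by
  classical
  have h1 : ∑ e ∈ S, u e * u e = S.card := by
    rw [Finset.sum_congr rfl fun e he => show u e * u e = 1 by
      rcases hu.eq_sign e with h | h | h <;> simp [h] at hS ⊢
      exact absurd h (hS e he)]
    simp
  have h2 : ∑ e ∈ S, u e * u e ≤ ∑ e, u e * u e :=
    Finset.sum_le_sum_of_subset_of_nonneg (Finset.subset_univ S) fun x _ _ => mul_self_nonneg _
  rw [h1, hu.norm] at h2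
  exact_mod_cast h2

omit [DecidableEq E] in
theorem IsBlock.card_support (hu : IsBlock d u) [DecidablePred fun e => u e ≠ 0] :
    (Finset.univ.filter fun e => u e ≠ 0).card = 3 := by
  classical
  have h1 : ∑ e ∈ Finset.univ.filter (fun e => u e ≠ 0), u e * u e = ∑ e, u e * u e :=
    Finset.sum_filter_of_ne fun e _ he => left_ne_zero_of_mul he
  rw [hu.norm, Finset.sum_congr rfl fun e he => show u e * u e = 1 by
    rcases hu.eq_sign e with h | h | h
    · simp [h]
    · exact absurd h (Finset.mem_filter.mp he).2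
    · simp [h]] at h1
  simp at h1
  exact_mod_cast h1

/-- A common point of three blocks is avoided by every block orthogonal to all of them. -/
theorem core_eq_zero (hd : ∀ e, 0 < d e) {K : Finset (E → ℤ)} (hK : ∀ k ∈ K, IsBlock d k)
    (hcard : 3 ≤ K.card) (hone : ∀ k ∈ K, ∀ l ∈ K, k ≠ l → ∑ e, k e * l e = 1) {x : E}
    (hx : ∀ k ∈ K, k x ≠ 0) (hv : IsBlock d v) (horth : ∀ k ∈ K, ∑ e, v e * k e = 0) :
    v x = 0 := by
  by_contra hvx
  have h : ∀ k ∈ K, ∃ e, e ≠ x ∧ v e ≠ 0 ∧ k e ≠ 0 := fun k hk =>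
    exists_other (horth k hk) hvx (hx k hk)
  have : Nonempty E := ⟨x⟩
  choose! f hfx hfv hfk using h
  have hinj : Set.InjOn f K := fun k hk l hl he => by
    by_contra hne
    exact hfx k hk ((hK k hk).eq_of_both_ne hd (hK l hl) (hone k hk l hl hne) (hfk k hk)
      (he ▸ hfk l hl) (hx k hk) (hx l hl))
  have h1 := hv.card_le (insert x (K.image f)) (fun e he => by
    rcases Finset.mem_insert.mp he with rfl | he
    · exact hvx
    · obtain ⟨k, hk, rfl⟩ := Finset.mem_image.mp he
      exact hfv k hk)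
  rw [Finset.card_insert_of_notMem (fun he => by
    obtain ⟨k, hk, h⟩ := Finset.mem_image.mp he
    exact hfx k hk h), Finset.card_image_of_injOn hinj] at h1
  omega

section Seven

/-- The coordinates, at the seven points, of a block in column `k`. -/
def sevenVec (δ : Fin 4) (t : ℤ × ℤ × ℤ × ℤ) : List ℤ :=
  [t.1, t.2.1, t.2.2.1, t.2.2.2, (if δ = 0 then 1 else 0) - t.1 - t.2.1,
    (if δ = 1 then 1 else 0) - t.1 - t.2.2.1, (if δ = 2 then 1 else 0) - t.1 - t.2.2.2]

/-- The conditions on a single such vector. -/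
def sevenOk (δ : Fin 4) (t : ℤ × ℤ × ℤ × ℤ) : Bool :=
  (sevenVec δ t).all (fun a => decide (-1 ≤ a ∧ a ≤ 1)) &&
    decide (((sevenVec δ t).map fun a => a * a).sum ≤ 3) &&
    decide (t.2.1 + t.2.2.1 + t.2.2.2 = if δ = 3 then 1 else 0)

/-- The conditions on a pair. -/
def sevenPair (a b : List ℤ) : Bool :=
  (List.zipWith (· * ·) a b).all (fun x => decide (0 ≤ x)) &&
    decide ((List.zipWith (· * ·) a b).sum ≤ 1) &&
    (decide ((List.zipWith (· * ·) a b).sum = 1) ||
      (decide ((a.map fun x => x * x).sum ≠ 3) && decide ((b.map fun x => x * x).sum ≠ 3)))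

/-- All quadruples of signs. -/
def sevenCands : List (ℤ × ℤ × ℤ × ℤ) :=
  [-1, 0, 1].flatMap fun a => [-1, 0, 1].flatMap fun b => [-1, 0, 1].flatMap fun c =>
    [-1, 0, 1].map fun e => (a, b, c, e)

/-- The candidates for column `δ`. -/
def sevenList (δ : Fin 4) : List (List ℤ) :=
  (sevenCands.filter (sevenOk δ)).map (sevenVec δ)

theorem seven_check :
    (sevenList 3).all (fun a => (sevenList 0).all fun b => !(sevenPair a b) ||
      (sevenList 1).all fun c => !(sevenPair a c && sevenPair b c) ||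
        (sevenList 2).all fun e => !(sevenPair a e && sevenPair b e && sevenPair c e)) = true := by
  decide +kernel

end Seven

end CfsgLib.CyclicTI
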