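import Cfsg.Agent.Lib.Char.CyclicTI.Family

/-!
# Coefficients of a class function against a cyclic TI family

If few coefficients are nonzero then they are constant along one row or along one column.
-/

set_option autoImplicit false

namespace CfsgLib.CyclicTI

/-- The bilinear lower bound used in the counting lemma. -/
theorem two_mul_le_cross {m n p q : ℤ} (hmn : m + 2 ≤ n) (hm : 2 ≤ m) (hp : 1 ≤ p) (hpm : p + 1 ≤ m)
    (hq : 1 ≤ q) (hqn : q + 1 ≤ n) : 2 * m ≤ p * (n - q) + (m - p) * q := by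
  rcases le_total (2 * p) m with h | h
  · nlinarith [mul_nonneg (sub_nonneg.mpr h) (sub_nonneg.mpr hq), mul_nonneg (sub_nonneg.mpr hp)
      (by linarith : (0 : ℤ) ≤ n - 2)]
  · nlinarith [mul_nonneg (sub_nonneg.mpr h) (by linarith : (0 : ℤ) ≤ n - 1 - q),
      mul_nonneg (by linarith : (0 : ℤ) ≤ m - 1 - p) (by linarith : (0 : ℤ) ≤ n - 2)]

open scoped Classical in
/-- An array of the form `u i + v j` with fewer than `2 m` nonzero entries (`m + 2 ≤ n`) is
constant in one of the two directions. -/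
theorem const_of_few {α β M : Type*} [Fintype α] [Fintype β] [AddCommGroup M] (u : α → M)
    (v : β → M) (hα : 2 ≤ Fintype.card α) (hαβ : Fintype.card α + 2 ≤ Fintype.card β)
    (hfew : (Finset.univ.filter fun p : α × β => u p.1 + v p.2 ≠ 0).card < 2 * Fintype.card α) :
    (∀ i i', u i = u i') ∨ (∀ j j', v j = v j') := by
  by_contra hcon
  push Not at hcon
  obtain ⟨⟨i1, i2, hi⟩, j1, j2, hj⟩ := hcon
  by_cases hz : ∀ i j, u i + v j ≠ 0
  · rw [Finset.filter_true_of_mem fun p _ => hz p.1 p.2, Finset.card_univ, Fintype.card_prod] at hfew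
    nlinarith
  push Not at hz
  obtain ⟨i0, j0, h0⟩ := hz
  set P := Finset.univ.filter fun i => u i = u i0 with hP
  set Q := Finset.univ.filter fun j => v j = v j0 with hQ
  have hp : 1 ≤ P.card := Finset.card_pos.mpr ⟨i0, by simp [hP]⟩
  have hq : 1 ≤ Q.card := Finset.card_pos.mpr ⟨j0, by simp [hQ]⟩
  have hpm : P.card + 1 ≤ Fintype.card α := by
    refine Finset.card_lt_univ_of_notMem (x := if u i1 = u i0 then i2 else i1) ?_
    simp only [hP, Finset.mem_filter, Finset.mem_univ, true_and]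
    split_ifs with h
    exacts [fun h' => hi (h.trans h'.symm), h]
  have hqn : Q.card + 1 ≤ Fintype.card β := by
    refine Finset.card_lt_univ_of_notMem (x := if v j1 = v j0 then j2 else j1) ?_
    simp only [hQ, Finset.mem_filter, Finset.mem_univ, true_and]
    split_ifs with h
    exacts [fun h' => hj (h.trans h'.symm), h]
  have hsub : (P ×ˢ Qᶜ) ∪ (Pᶜ ×ˢ Q) ⊆
      Finset.univ.filter fun p : α × β => u p.1 + v p.2 ≠ 0 := by
    intro p hp
    simp only [Finset.mem_union, Finset.mem_product, Finset.mem_compl, hP, hQ, Finset.mem_filter,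
      Finset.mem_univ, true_and] at hp ⊢
    rcases hp with ⟨h1, h2⟩ | ⟨h1, h2⟩
    · intro h; rw [h1] at h; exact h2 (add_left_cancel (h.trans h0.symm))
    · intro h; rw [h2] at h; exact h1 (add_right_cancel (h.trans h0.symm))
  have hdisj : Disjoint (P ×ˢ Qᶜ) (Pᶜ ×ˢ Q) := by
    rw [Finset.disjoint_left]
    intro p h1 h2
    simp only [Finset.mem_product, Finset.mem_compl] at h1 h2
    exact h2.1 h1.1
  have hc := Finset.card_le_card hsub
  rw [Finset.card_union_of_disjoint hdisj, Finset.card_product, Finset.card_product,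
    Finset.card_compl, Finset.card_compl] at hc
  have := two_mul_le_cross (m := (Fintype.card α : ℤ)) (n := (Fintype.card β : ℤ))
    (p := (P.card : ℤ)) (q := (Q.card : ℤ)) (by omega) (by omega) (by omega) (by omega) (by omega)
    (by omega)
  rw [← Nat.cast_sub (by omega), ← Nat.cast_sub (by omega)] at this
  have : 2 * Fintype.card α ≤ P.card * (Fintype.card β - Q.card) +
      (Fintype.card α - P.card) * Q.card := by exact_mod_cast this
  omega

variable {G : Type*} [Group G] [Fintype G] {W₁ W₂ : Subgroup G}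
  (hW : Cfsg.IsSelfNormalizingCyclic W₁ W₂)
  {χ : (↥(W₁ ⊔ W₂) →* ℂˣ) → (G → ℂ)}

include hW

omit [Fintype G] in
theorem forall_W₂_iff (ω : ↥(W₁ ⊔ W₂) →* ℂˣ) (l : W₁ →* ℂˣ) (k k₀ : W₂ →* ℂˣ)
    (hω : inl hW l * inr hW k = ω) :
    (∀ w : ↥(W₁ ⊔ W₂), (w : G) ∈ W₂ → (ω * (inr hW k₀)⁻¹) w = 1) ↔ k = k₀ := by
  subst hω
  refine ⟨fun h => inr_injective hW (MonoidHom.ext fun w => ?_), fun h w hw => ?_⟩
  · have hp : ((proj₂ hW w : G)) ∈ W₂ := (proj₂ hW w).2
    let w₂ : ↥(W₁ ⊔ W₂) := ⟨(proj₂ hW w : G), Subgroup.mem_sup_right hp⟩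
    have h2 := h w₂ hp
    simp only [MonoidHom.mul_apply, MonoidHom.inv_apply, inl_apply_W₂ hW l w₂ hp, one_mul,
      mul_inv_eq_one] at h2
    have he : proj₂ hW w₂ = proj₂ hW w := by
      have := proj_prodEquiv hW (1, proj₂ hW w)
      have he' : prodEquiv hW (1, proj₂ hW w) = w₂ := Subtype.ext (by simp [coe_prodEquiv, w₂])
      rw [he'] at this
      exact this.2
    simp only [inr, MonoidHom.comp_apply, he] at h2 ⊢
    exact h2
  · simp [h, inl_apply_W₂ hW l w hw]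

omit [Fintype G] in
theorem forall_W₁_iff (ω : ↥(W₁ ⊔ W₂) →* ℂˣ) (l l₀ : W₁ →* ℂˣ) (k : W₂ →* ℂˣ)
    (hω : inl hW l * inr hW k = ω) :
    (∀ w : ↥(W₁ ⊔ W₂), (w : G) ∈ W₁ → (ω * (inl hW l₀)⁻¹) w = 1) ↔ l = l₀ := by
  subst hω
  refine ⟨fun h => inl_injective hW (MonoidHom.ext fun w => ?_), fun h w hw => ?_⟩
  · have hp : ((proj₁ hW w : G)) ∈ W₁ := (proj₁ hW w).2
    let w₁ : ↥(W₁ ⊔ W₂) := ⟨(proj₁ hW w : G), Subgroup.mem_sup_left hp⟩
    have h2 := h w₁ hp
    simp only [MonoidHom.mul_apply, MonoidHom.inv_apply, inr_apply_W₁ hW k w₁ hp, mul_one,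
      mul_inv_eq_one] at h2
    have he : proj₁ hW w₁ = proj₁ hW w := by
      have := proj_prodEquiv hW (proj₁ hW w, 1)
      have he' : prodEquiv hW (proj₁ hW w, 1) = w₁ := Subtype.ext (by simp [coe_prodEquiv, w₁])
      rw [he'] at this
      exact this.1
    simp only [inl, MonoidHom.comp_apply, he] at h2 ⊢
    exact h2
  · simp [h, inr_apply_W₁ hW k w hw]

open scoped Classical in
theorem few_coeff (hodd : Odd (Nat.card ↥(W₁ ⊔ W₂))) (hχ : Cfsg.IsCyclicTIFamily W₁ W₂ χ)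
    (hlt : Nat.card W₁ < Nat.card W₂) {θ : G → ℂ} (hθ : Cfsg.IsClassFunction G θ)
    (hθV : ∀ w : ↥(W₁ ⊔ W₂), (w : G) ∉ W₁ → (w : G) ∉ W₂ → θ w = 0)
    (hfew : Nat.card {ω : ↥(W₁ ⊔ W₂) →* ℂˣ // Cfsg.classInner θ (χ ω) ≠ 0} < 2 * Nat.card W₁) :
    (∀ ω, Cfsg.classInner θ (χ ω) = 0) ∨
    (∃ (ψ₀ : ↥(W₁ ⊔ W₂) →* ℂˣ) (a : ℂ), ∀ ω, Cfsg.classInner θ (χ ω) =
      if (∀ w : ↥(W₁ ⊔ W₂), (w : G) ∈ W₂ → (ω * ψ₀⁻¹) w = 1) then a else 0) ∨
    (∃ (φ₀ : ↥(W₁ ⊔ W₂) →* ℂˣ) (a : ℂ), ∀ ω, Cfsg.classInner θ (χ ω) =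
      if (∀ w : ↥(W₁ ⊔ W₂), (w : G) ∈ W₁ → (ω * φ₀⁻¹) w = 1) then a else 0) := by
  have hA1 : ∀ a b : W₁, a * b = b * a := fun a b => Subtype.ext (congrArg Subtype.val
    (W_comm hW ⟨a, Subgroup.mem_sup_left a.2⟩ ⟨b, Subgroup.mem_sup_left b.2⟩) :)
  have hA2 : ∀ a b : W₂, a * b = b * a := fun a b => Subtype.ext (congrArg Subtype.val
    (W_comm hW ⟨a, Subgroup.mem_sup_right a.2⟩ ⟨b, Subgroup.mem_sup_right b.2⟩) :)
  have := finite_hom W₁
  have := finite_hom W₂
  have := Fintype.ofFinite (W₁ →* ℂˣ)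
  have := Fintype.ofFinite (W₂ →* ℂˣ)
  have c1 : Fintype.card (W₁ →* ℂˣ) = Nat.card W₁ := by
    rw [← card_hom hA1, Nat.card_eq_fintype_card]
  have c2 : Fintype.card (W₂ →* ℂˣ) = Nat.card W₂ := by
    rw [← card_hom hA2, Nat.card_eq_fintype_card]
  have o1 : Odd (Nat.card W₁) := hodd.of_dvd_nat (Subgroup.card_dvd_of_le le_sup_left)
  have o2 : Odd (Nat.card W₂) := hodd.of_dvd_nat (Subgroup.card_dvd_of_le le_sup_right)
  have h1 : 2 ≤ Nat.card W₁ := by
    have hne : Nat.card W₁ ≠ 1 := fun h => hW.1 (Subgroup.card_eq_one.mp h)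
    have := Nat.card_pos (α := W₁)
    omega
  set A : (W₁ →* ℂˣ) → (W₂ →* ℂˣ) → ℂ :=
    fun l k => Cfsg.classInner θ (χ (inl hW l * inr hW k)) with hA
  set u : (W₁ →* ℂˣ) → ℂ := fun l => Cfsg.classInner θ (χ (inl hW l)) with hu
  set v : (W₂ →* ℂˣ) → ℂ :=
    fun k => Cfsg.classInner θ (χ (inr hW k)) - Cfsg.classInner θ (χ 1) with hv
  have hAuv : ∀ l k, A l k = u l + v k := fun l k => by
    simp only [hA, hu, hv]
    rw [inner_relation hW hχ hθ hθV (inl_apply_W₂ hW l) (inr_apply_W₁ hW k)]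
    ring
  let e : (W₁ →* ℂˣ) × (W₂ →* ℂˣ) → (↥(W₁ ⊔ W₂) →* ℂˣ) := fun p => inl hW p.1 * inr hW p.2
  have he : Function.Bijective e :=
    ⟨fun p q h => Prod.ext (mul_inj hW h).1 (mul_inj hW h).2,
      fun ω => let ⟨l, k, h⟩ := exists_eq_mul hW ω; ⟨(l, k), h⟩⟩
  have hN : (Finset.univ.filter fun p : (W₁ →* ℂˣ) × (W₂ →* ℂˣ) => u p.1 + v p.2 ≠ 0).card <
      2 * Fintype.card (W₁ →* ℂˣ) := by
    rw [c1]
    refine lt_of_eq_of_lt ?_ hfew
    rw [← Fintype.card_subtype, ← Nat.card_eq_fintype_card]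
    refine Nat.card_congr (Equiv.subtypeEquiv (Equiv.ofBijective e he) fun p => ?_)
    rw [← hAuv p.1 p.2]
    rfl
  obtain ⟨r1, hr1⟩ := o1
  obtain ⟨r2, hr2⟩ := o2
  rcases const_of_few u v (by omega) (by omega) hN with hc | hc
  · -- constant in the first coordinate
    have hA' : ∀ l k, A l k = A 1 k := fun l k => by rw [hAuv, hAuv, hc l 1]
    by_cases hall : ∀ k, A 1 k = 0
    · left
      intro ω
      obtain ⟨l, k, rfl⟩ := exists_eq_mul hW ω
      exact (hA' l k).trans (hall k)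
    push Not at hall
    obtain ⟨k0, hk0⟩ := hall
    right; left
    refine ⟨inr hW k0, A 1 k0, fun ω => ?_⟩
    obtain ⟨l, k, rfl⟩ := exists_eq_mul hW ω
    change A l k = _
    rw [if_congr (forall_W₂_iff hW _ l k k0 rfl) rfl rfl, hA' l k]
    split_ifs with hk
    · rw [hk]
    by_contra hne
    have hsub : (Finset.univ : Finset (W₁ →* ℂˣ)) ×ˢ ({k, k0} : Finset (W₂ →* ℂˣ)) ⊆
        Finset.univ.filter fun p : (W₁ →* ℂˣ) × (W₂ →* ℂˣ) => u p.1 + v p.2 ≠ 0 := by
      intro p hp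
      simp only [Finset.mem_product, Finset.mem_insert, Finset.mem_singleton] at hp
      simp only [Finset.mem_filter, Finset.mem_univ, true_and, ← hAuv, hA' p.1]
      rcases hp.2 with h | h <;> rw [h] <;> assumption
    have := Finset.card_le_card hsub
    rw [Finset.card_product, Finset.card_univ, Finset.card_pair hk] at this
    omega
  · -- constant in the second coordinate
    have hA' : ∀ l k, A l k = A l 1 := fun l k => by rw [hAuv, hAuv, hc k 1]
    by_cases hall : ∀ l, A l 1 = 0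
    · left
      intro ω
      obtain ⟨l, k, rfl⟩ := exists_eq_mul hW ω
      exact (hA' l k).trans (hall l)
    push Not at hall
    obtain ⟨l0, hl0⟩ := hall
    right; right
    refine ⟨inl hW l0, A l0 1, fun ω => ?_⟩
    obtain ⟨l, k, rfl⟩ := exists_eq_mul hW ω
    change A l k = _
    rw [if_congr (forall_W₁_iff hW _ l l0 k rfl) rfl rfl, hA' l k]
    split_ifs with hl
    · rw [hl]
    by_contra hne
    have hsub : ({l, l0} : Finset (W₁ →* ℂˣ)) ×ˢ (Finset.univ : Finset (W₂ →* ℂˣ)) ⊆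
        Finset.univ.filter fun p : (W₁ →* ℂˣ) × (W₂ →* ℂˣ) => u p.1 + v p.2 ≠ 0 := by
      intro p hp
      simp only [Finset.mem_product, Finset.mem_insert, Finset.mem_singleton] at hp
      simp only [Finset.mem_filter, Finset.mem_univ, true_and, ← hAuv, hA' p.1]
      rcases hp.1 with h | h <;> rw [h] <;> assumption
    have := Finset.card_le_card hsub
    rw [Finset.card_product, Finset.card_univ, Finset.card_pair hl] at this
    omega

end CfsgLib.CyclicTI
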