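import Cfsg.Agent.Lib.Char.CyclicTI.Config

/-!
# The structure of the rook configuration
-/

set_option autoImplicit false

namespace CfsgLib.CyclicTI

variable {E : Type*} [Fintype E] [DecidableEq E]

/-- The hypotheses. -/
structure Rook {I J : Type*} (d : E → ℤ) (u : I → J → E → ℤ) : Prop where
  pos : ∀ e, 0 < d e
  block : ∀ i j, IsBlock d (u i j)
  row : ∀ i j j', j ≠ j' → ∑ e, u i j e * u i j' e = 1
  col : ∀ i i' j, i ≠ i' → ∑ e, u i j e * u i' j e = 1
  far : ∀ i i' j j', i ≠ i' → j ≠ j' → ∑ e, u i j e * u i' j' e = 0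

variable {I J : Type*} {d : E → ℤ} {u : I → J → E → ℤ}

omit [DecidableEq E] in
theorem Rook.transpose (h : Rook d u) : Rook d fun j i => u i j where
  pos := h.pos
  block j i := h.block i j
  row j i i' hi := h.col i i' j hi
  col j j' i hj := h.row i j j' hj
  far j j' i i' hj hi := h.far i i' j j' hi hj

theorem sevenPair_of {f g : Fin 7 → ℤ} (h0 : ∀ k, 0 ≤ f k * g k) (h1 : ∑ k, f k * g k ≤ 1)
    (hf : ∑ k, f k * f k = 3 → ∑ k, f k * g k = 1) (hg : ∑ k, g k * g k = 3 → ∑ k, f k * g k = 1) :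
    sevenPair [f 0, f 1, f 2, f 3, f 4, f 5, f 6] [g 0, g 1, g 2, g 3, g 4, g 5, g 6] = true := by
  simp only [Fin.sum_univ_seven] at h1 hf hg
  simp only [sevenPair, List.zipWith_cons_cons, List.zipWith_nil_right, List.all_cons, List.all_nil,
    List.map_cons, List.map_nil, List.sum_cons, List.sum_nil, Bool.and_eq_true, Bool.or_eq_true,
    decide_eq_true_eq, Bool.and_true]
  refine ⟨⟨⟨h0 0, h0 1, h0 2, h0 3, h0 4, h0 5, h0 6⟩, by linarith⟩, ?_⟩
  by_cases hD : f 0 * g 0 + f 1 * g 1 + f 2 * g 2 + f 3 * g 3 + f 4 * g 4 + f 5 * g 5 + f 6 * g 6 = 1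
  · exact Or.inl (by linarith)
  · exact Or.inr ⟨fun e => hD (hf (by linarith)), fun e => hD (hg (by linarith))⟩

/-- Three blocks of a row cannot meet in a point avoided by a fourth. -/
theorem Rook.row_three (h : Rook d u) {i i' : I} (hi : i ≠ i') {c : Fin 4 → J}
    (hc : Function.Injective c) {a : E} (h0 : u i (c 0) a ≠ 0) (h1 : u i (c 1) a ≠ 0)
    (h2 : u i (c 2) a ≠ 0) : u i (c 3) a ≠ 0 := by
  classical
  intro h3
  set A : Fin 4 → E → ℤ := fun k => u i (c k) with hA
  set w : Fin 4 → E → ℤ := fun k => u i' (c k) with hw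
  have hAA : ∀ k l, k ≠ l → ∑ e, A k e * A l e = 1 := fun k l hkl => h.row i _ _ (hc.ne hkl)
  have hAb : ∀ k, IsBlock d (A k) := fun k => h.block i _
  have hwA : ∀ k l, ∑ e, w k e * A l e = if l = k then 1 else 0 := by
    intro k l
    by_cases hkl : l = k
    · subst hkl; rw [if_pos rfl]; exact h.col i' i _ hi.symm
    · rw [if_neg hkl]; exact h.far i' i _ _ hi.symm (hc.ne (Ne.symm hkl))
  have hcore : ∀ k : Fin 4, k ≠ 3 → A k a ≠ 0 := by
    intro k hk
    fin_cases k
    · exact h0
    · exact h1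
    · exact h2
    · exact absurd rfl hk
  -- the points of the first three blocks on the fourth, and the third points
  have hne3 : ∀ k : Fin 3, k.castSucc ≠ (3 : Fin 4) := by decide
  have hb : ∀ k : Fin 3, ∃ e, A k.castSucc e ≠ 0 ∧ A 3 e ≠ 0 := fun k =>
    exists_both_ne (by rw [hAA _ _ (hne3 k)]; exact one_ne_zero)
  choose b hb1 hb2 using hb
  have hba : ∀ k, b k ≠ a := fun k e => hb2 k (e ▸ h3)
  have hsing : ∀ (k : Fin 3) (e : E), A k.castSucc e ≠ 0 → ∀ l : Fin 3, A l.castSucc e ≠ 0 →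
      k ≠ l → e = a := fun k e he l hle hkl =>
    (hAb _).eq_of_both_ne h.pos (hAb _) (hAA _ _ (fun hh => hkl (Fin.castSucc_injective 3 hh))) he hle
      (hcore _ (hne3 k)) (hcore _ (Fin.castSucc_lt_last l).ne)
  have hthird : ∀ k : Fin 3, ∃ e, A k.castSucc e ≠ 0 ∧ e ≠ a ∧ e ≠ b k ∧
      ∀ x, A k.castSucc x ≠ 0 → x = a ∨ x = b k ∨ x = e := by
    intro k
    set S := Finset.univ.filter fun e => A k.castSucc e ≠ 0 with hS
    have hcard : S.card = 3 := (hAb _).card_support
    have hab : ({a, b k} : Finset E) ⊆ S := by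
      intro e he
      rcases Finset.mem_insert.mp he with rfl | he
      · exact Finset.mem_filter.mpr ⟨Finset.mem_univ _, hcore _ (hne3 k)⟩
      · rw [Finset.mem_singleton] at he
        exact Finset.mem_filter.mpr ⟨Finset.mem_univ _, he ▸ hb1 k⟩
    have h4 : (S \ {a, b k}).card = 1 := by
      rw [Finset.card_sdiff_of_subset hab, hcard, Finset.card_pair (hba k).symm]
    obtain ⟨e, he⟩ := Finset.card_eq_one.mp h4
    have hmem := he ▸ Finset.mem_singleton_self e
    simp only [Finset.mem_sdiff, hS, Finset.mem_filter, Finset.mem_univ, true_and,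
      Finset.mem_insert, Finset.mem_singleton, not_or] at hmem
    refine ⟨e, hmem.1, hmem.2.1, hmem.2.2, fun x hx => ?_⟩
    by_cases hx2 : x ∈ ({a, b k} : Finset E)
    · simp only [Finset.mem_insert, Finset.mem_singleton] at hx2; tauto
    · exact Or.inr (Or.inr (Finset.mem_singleton.mp (he ▸ Finset.mem_sdiff.mpr
        ⟨Finset.mem_filter.mpr ⟨Finset.mem_univ _, hx⟩, hx2⟩)))
  choose cc hc1 hc2 hc3 hc4 using hthird
  have hbinj : ∀ k l, k ≠ l → b k ≠ b l := fun k l hkl e =>
    hba k (hsing k (b k) (hb1 k) l (e ▸ hb1 l) hkl)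
  have hcb : ∀ k l, cc k ≠ b l := fun k l e => by
    rcases eq_or_ne k l with rfl | hkl
    · exact hc3 k e
    · exact hc2 k (hsing k (cc k) (hc1 k) l (e ▸ hb1 l) hkl)
  have hcinj : ∀ k l, k ≠ l → cc k ≠ cc l := fun k l hkl e =>
    hc2 k (hsing k (cc k) (hc1 k) l (e ▸ hc1 l) hkl)
  have hsupp3 : ∀ x, A 3 x ≠ 0 → x = b 0 ∨ x = b 1 ∨ x = b 2 := by
    intro x hx
    by_contra hno
    push Not at hno
    have h5 := (hAb 3).card_le {x, b 0, b 1, b 2} (fun e he => by
      simp only [Finset.mem_insert, Finset.mem_singleton] at he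
      rcases he with rfl | rfl | rfl | rfl
      exacts [hx, hb2 0, hb2 1, hb2 2])
    rw [Finset.card_insert_of_notMem (by simp [hno.1, hno.2.1, hno.2.2]),
      Finset.card_insert_of_notMem (by simp [hbinj 0 1 (by decide), hbinj 0 2 (by decide)]),
      Finset.card_pair (hbinj 1 2 (by decide))] at h5
    omega
  -- coordinates
  let P : Fin 7 → E := ![a, b 0, b 1, b 2, cc 0, cc 1, cc 2]
  have hP : Function.Injective P := by
    intro m n hmn
    have e1 := hba 0; have e2 := hba 1; have e3 := hba 2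
    have f1 := hc2 0; have f2 := hc2 1; have f3 := hc2 2
    have g1 := hbinj 0 1 (by decide); have g2 := hbinj 0 2 (by decide)
    have g3 := hbinj 1 2 (by decide)
    have k1 := hcinj 0 1 (by decide); have k2 := hcinj 0 2 (by decide)
    have k3 := hcinj 1 2 (by decide)
    fin_cases m <;> fin_cases n <;> simp [P] at hmn ⊢ <;>
      first
        | exact e1 hmn | exact e1 hmn.symm | exact e2 hmn | exact e2 hmn.symm
        | exact e3 hmn | exact e3 hmn.symm | exact f1 hmn | exact f1 hmn.symm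
        | exact f2 hmn | exact f2 hmn.symm | exact f3 hmn | exact f3 hmn.symm
        | exact g1 hmn | exact g1 hmn.symm | exact g2 hmn | exact g2 hmn.symm
        | exact g3 hmn | exact g3 hmn.symm | exact k1 hmn | exact k1 hmn.symm
        | exact k2 hmn | exact k2 hmn.symm | exact k3 hmn | exact k3 hmn.symm
        | exact hcb _ _ hmn | exact hcb _ _ hmn.symm
  let s : Fin 7 → ℤ :=
    ![A 0 a, A 3 (b 0), A 3 (b 1), A 3 (b 2), A 0 (cc 0), A 1 (cc 1), A 2 (cc 2)]
  have hs1 : ∀ m, s m * s m = 1 := by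
    have : ∀ k e, A k e ≠ 0 → A k e * A k e = 1 := fun k e he => by
      rcases (hAb k).eq_sign e with h | h | h
      · simp [h]
      · exact absurd h he
      · simp [h]
    intro m
    fin_cases m <;> simp only [s] <;>
      first | exact this _ _ h0 | exact this _ _ (hb2 _) | exact this _ _ (hc1 0) |
        exact this _ _ (hc1 1) | exact this _ _ (hc1 2)
  let f : Fin 4 → Fin 7 → ℤ := fun k m => w k (P m) * s m
  have hAeq : ∀ k : Fin 3, A k.castSucc a = A 0 a ∧ A k.castSucc (b k) = A 3 (b k) := by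
    intro k
    refine ⟨?_, (hAb _).apply_eq h.pos (hAb 3) (hAA _ _ (hne3 k)) (hb1 k) (hb2 k)⟩
    rcases eq_or_ne k 0 with rfl | hk
    · rfl
    · exact (hAb _).apply_eq h.pos (hAb 0)
        (hAA _ _ fun hh => hk (Fin.castSucc_injective 3 hh))
        (hcore _ (hne3 k)) h0
  have heq : ∀ (δ : Fin 4) (k : Fin 3),
      w δ a * A 0 a + w δ (b k) * A 3 (b k) + w δ (cc k) * A k.castSucc (cc k) =
        if k.castSucc = δ then 1 else 0 := by
    intro δ k
    rw [← hwA δ k.castSucc, ← Finset.sum_subset (Finset.subset_univ {a, b k, cc k})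
      (fun x _ hx => by
        by_contra hne
        simp only [Finset.mem_insert, Finset.mem_singleton, not_or] at hx
        rcases hc4 k x (right_ne_zero_of_mul hne) with e | e | e
        exacts [hx.1 e, hx.2.1 e, hx.2.2 e]),
      Finset.sum_insert (by simp [(hba k).symm, (hc2 k).symm]),
      Finset.sum_pair (hc3 k).symm, (hAeq k).1, (hAeq k).2]
    ring
  have heq3 : ∀ δ : Fin 4, w δ (b 0) * A 3 (b 0) + w δ (b 1) * A 3 (b 1) + w δ (b 2) * A 3 (b 2) =
      if (3 : Fin 4) = δ then 1 else 0 := by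
    intro δ
    rw [← hwA δ 3, ← Finset.sum_subset (Finset.subset_univ {b 0, b 1, b 2})
      (fun x _ hx => by
        by_contra hne
        simp only [Finset.mem_insert, Finset.mem_singleton, not_or] at hx
        rcases hsupp3 x (right_ne_zero_of_mul hne) with e | e | e
        exacts [hx.1 e, hx.2.1 e, hx.2.2 e]),
      Finset.sum_insert (by simp [hbinj 0 1 (by decide), hbinj 0 2 (by decide)]),
      Finset.sum_pair (hbinj 1 2 (by decide))]
    ring
  have hwb : ∀ k, IsBlock d (w k) := fun k => h.block i' _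
  have hsq : ∀ δ m, f δ m * f δ m = w δ (P m) * w δ (P m) := fun δ m => by
    show w δ (P m) * s m * (w δ (P m) * s m) = _
    rw [mul_mul_mul_comm, hs1, mul_one]
  have hnorm : ∀ δ, ∑ m, f δ m * f δ m ≤ 3 ∧
      (∑ m, f δ m * f δ m = 3 → ∀ x, x ∉ Finset.univ.image P → w δ x = 0) := by
    intro δ
    have h6 : ∑ m, f δ m * f δ m = ∑ x ∈ Finset.univ.image P, w δ x * w δ x := by
      rw [Finset.sum_image fun x _ y _ hh => hP hh]
      exact Finset.sum_congr rfl fun m _ => hsq δ m
    rw [h6, ← (hwb δ).norm]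
    refine ⟨Finset.sum_le_sum_of_subset_of_nonneg (Finset.subset_univ _)
      fun x _ _ => mul_self_nonneg _, fun he x hx => ?_⟩
    rw [← Finset.sum_sdiff (Finset.subset_univ (Finset.univ.image P))] at he
    exact mul_self_eq_zero.mp ((Finset.sum_eq_zero_iff_of_nonneg
      fun y _ => mul_self_nonneg (w δ y)).mp (by linarith) x
        (Finset.mem_sdiff.mpr ⟨Finset.mem_univ _, hx⟩))
  have hmem : ∀ δ, [f δ 0, f δ 1, f δ 2, f δ 3, f δ 4, f δ 5, f δ 6] ∈ sevenList δ := by
    intro δ
    have hval : ∀ m, f δ m = -1 ∨ f δ m = 0 ∨ f δ m = 1 := fun m => by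
      have hm := hs1 m
      rcases (hwb δ).eq_sign (P m) with e | e | e <;>
        rcases mul_self_eq_one_iff.mp hm with e' | e' <;> simp [f, e, e']
    have q0 : f δ 0 + f δ 1 + f δ 4 = if δ = 0 then 1 else 0 :=
      (heq δ 0).trans (if_congr eq_comm rfl rfl)
    have q1 : f δ 0 + f δ 2 + f δ 5 = if δ = 1 then 1 else 0 :=
      (heq δ 1).trans (if_congr eq_comm rfl rfl)
    have q2 : f δ 0 + f δ 3 + f δ 6 = if δ = 2 then 1 else 0 :=
      (heq δ 2).trans (if_congr eq_comm rfl rfl)
    have q3 : f δ 1 + f δ 2 + f δ 3 = if δ = 3 then 1 else 0 :=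
      (heq3 δ).trans (if_congr eq_comm rfl rfl)
    have hvec : sevenVec δ (f δ 0, f δ 1, f δ 2, f δ 3) =
        [f δ 0, f δ 1, f δ 2, f δ 3, f δ 4, f δ 5, f δ 6] := by
      simp only [sevenVec, List.cons.injEq, true_and, and_true]
      exact ⟨by linarith, by linarith, by linarith⟩
    refine List.mem_map.mpr ⟨_, List.mem_filter.mpr ⟨?_, ?_⟩, hvec⟩
    · simp only [sevenCands, List.mem_flatMap, List.mem_map, List.mem_cons, List.not_mem_nil,
        or_false, Prod.mk.injEq]
      exact ⟨_, hval 0, _, hval 1, _, hval 2, _, hval 3, rfl, rfl, rfl, rfl⟩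
    · have hn := (hnorm δ).1
      rw [Fin.sum_univ_seven] at hn
      simp only [sevenOk, hvec, List.all_cons, List.all_nil, List.map_cons, List.map_nil,
        List.sum_cons, List.sum_nil, Bool.and_eq_true, decide_eq_true_eq, Bool.and_true]
      have hb : ∀ m, -1 ≤ f δ m ∧ f δ m ≤ 1 := fun m => by
        rcases hval m with e | e | e <;> omega
      exact ⟨⟨⟨hb 0, hb 1, hb 2, hb 3, hb 4, hb 5, hb 6⟩, by linarith⟩, q3⟩
  have hpair : ∀ k l, k ≠ l → sevenPair [f k 0, f k 1, f k 2, f k 3, f k 4, f k 5, f k 6]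
      [f l 0, f l 1, f l 2, f l 3, f l 4, f l 5, f l 6] = true := by
    intro k l hkl
    have hdot : ∑ e, w k e * w l e = 1 := h.row i' _ _ (hc.ne hkl)
    have hpr : ∀ m, f k m * f l m = w k (P m) * w l (P m) := fun m => by
      show w k (P m) * s m * (w l (P m) * s m) = _
      rw [mul_mul_mul_comm, hs1, mul_one]
    have hD : ∑ m, f k m * f l m = ∑ x ∈ Finset.univ.image P, w k x * w l x := by
      rw [Finset.sum_image fun x _ y _ hh => hP hh]
      exact Finset.sum_congr rfl fun m _ => hpr m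
    refine sevenPair_of (fun m => hpr m ▸ (hwb k).mul_nonneg h.pos (hwb l) hdot _) ?_ ?_ ?_
    · rw [hD, ← hdot]
      exact Finset.sum_le_sum_of_subset_of_nonneg (Finset.subset_univ _)
        fun x _ _ => (hwb k).mul_nonneg h.pos (hwb l) hdot x
    · intro he
      rw [hD, ← hdot]
      exact Finset.sum_subset (Finset.subset_univ _) fun x _ hx => by
        rw [(hnorm k).2 he x hx, zero_mul]
    · intro he
      rw [hD, ← hdot]
      exact Finset.sum_subset (Finset.subset_univ _) fun x _ hx => by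
        rw [(hnorm l).2 he x hx, mul_zero]
  have hchk := seven_check
  rw [List.all_eq_true] at hchk
  have hc3' := hchk _ (hmem 3)
  rw [List.all_eq_true] at hc3'
  have hc0' := hc3' _ (hmem 0)
  rw [hpair 3 0 (by decide), Bool.not_true, Bool.false_or, List.all_eq_true] at hc0'
  have hc1' := hc0' _ (hmem 1)
  rw [hpair 3 1 (by decide), hpair 0 1 (by decide), Bool.and_self, Bool.not_true, Bool.false_or,
    List.all_eq_true] at hc1'
  have hc2' := hc1' _ (hmem 2)
  rw [hpair 3 2 (by decide), hpair 0 2 (by decide), hpair 1 2 (by decide)] at hc2'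
  simp at hc2'

/-- Four blocks of a row have a common point. -/
theorem Rook.row_four (h : Rook d u) {i i' : I} (hi : i ≠ i') {c : Fin 4 → J}
    (hc : Function.Injective c) : ∃ x, ∀ k, u i (c k) x ≠ 0 := by
  classical
  by_cases hB : ∃ (σ : Equiv.Perm (Fin 4)) (x : E),
      u i (c (σ 0)) x ≠ 0 ∧ u i (c (σ 1)) x ≠ 0 ∧ u i (c (σ 2)) x ≠ 0
  · obtain ⟨σ, x, h0, h1, h2⟩ := hB
    have h3 := h.row_three hi (hc.comp σ.injective) h0 h1 h2
    refine ⟨x, fun k => ?_⟩
    obtain ⟨l, rfl⟩ := σ.surjective k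
    fin_cases l
    exacts [h0, h1, h2, h3]
  push Not at hB
  exfalso
  have hA : ∀ k l : Fin 4, k ≠ l → ∑ e, u i (c k) e * u i (c l) e = 1 :=
    fun k l hkl => h.row i _ _ (hc.ne hkl)
  have hthree : ∀ k l m : Fin 4, k ≠ l → k ≠ m → l ≠ m → ∀ x, u i (c k) x ≠ 0 →
      u i (c l) x ≠ 0 → u i (c m) x = 0 := by
    intro k l m hkl hkm hlm x hk hl
    have hσ : ∀ k l m : Fin 4, k ≠ l → k ≠ m → l ≠ m →
        ∃ σ : Equiv.Perm (Fin 4), σ 0 = k ∧ σ 1 = l ∧ σ 2 = m := by decide +kernel
    obtain ⟨σ, rfl, rfl, rfl⟩ := hσ k l m hkl hkm hlm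
    exact hB σ x hk hl
  have heven : ∀ e, (2 : ℤ) ∣ ∑ l, u i (c l) e := by
    intro e
    by_cases hall : ∀ l, u i (c l) e = 0
    · simp [hall]
    push Not at hall
    obtain ⟨k, hk⟩ := hall
    have hpt : ∀ l, ∃ x, l ≠ k → u i (c k) x ≠ 0 ∧ u i (c l) x ≠ 0 := fun l => by
      by_cases hl : l = k
      · exact ⟨e, fun h => absurd hl h⟩
      · obtain ⟨x, hx⟩ := exists_both_ne (u := u i (c k)) (v := u i (c l))
          (by rw [hA k l (Ne.symm hl)]; exact one_ne_zero)
        exact ⟨x, fun _ => hx⟩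
    choose g hg using hpt
    have hinj : Set.InjOn g ↑(Finset.univ.erase k) := by
      intro l hl m hm he
      by_contra hlm
      have hl' := Finset.ne_of_mem_erase hl
      have hm' := Finset.ne_of_mem_erase hm
      exact (hg m hm').2 (he ▸ hthree k l m hl'.symm hm'.symm hlm (g l) (hg l hl').1 (hg l hl').2)
    obtain ⟨l, hl, rfl⟩ : ∃ l ∈ Finset.univ.erase k, g l = e := by
      by_contra hno
      push Not at hno
      have h7 := (h.block i (c k)).card_le (insert e ((Finset.univ.erase k).image g)) (fun x hx => by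
        rcases Finset.mem_insert.mp hx with rfl | hx
        · exact hk
        · obtain ⟨l, hl, rfl⟩ := Finset.mem_image.mp hx
          exact (hg l (Finset.ne_of_mem_erase hl)).1)
      rw [Finset.card_insert_of_notMem (fun hx => by
        obtain ⟨l, hl, he⟩ := Finset.mem_image.mp hx
        exact hno l hl he), Finset.card_image_of_injOn hinj,
        Finset.card_erase_of_mem (Finset.mem_univ _), Finset.card_univ, Fintype.card_fin] at h7
      omega
    have hlk := Finset.ne_of_mem_erase hl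
    obtain ⟨h8, h9⟩ := hg l hlk
    rw [← Finset.sum_subset (Finset.subset_univ {k, l}) (fun m _ hm => by
        simp only [Finset.mem_insert, Finset.mem_singleton, not_or] at hm
        exact hthree k l m hlk.symm (Ne.symm hm.1) (Ne.symm hm.2) _ h8 h9),
      Finset.sum_pair hlk.symm,
      (h.block i _).apply_eq h.pos (h.block i _) (hA k l hlk.symm) h8 h9]
    exact ⟨_, (two_mul _).symm⟩
  have hsum : ∑ e, u i' (c 0) e * ∑ l, u i (c l) e = 1 := by
    simp only [Finset.mul_sum]
    rw [Finset.sum_comm, Finset.sum_eq_single (0 : Fin 4)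
      (fun l _ hl => h.far i' i _ _ hi.symm (hc.ne (Ne.symm hl)))
      (fun hh => absurd (Finset.mem_univ _) hh)]
    exact h.col i' i _ hi.symm
  have h10 : (2 : ℤ) ∣ 1 := hsum ▸ Finset.dvd_sum fun e _ => dvd_mul_of_dvd_right (heven e) _
  norm_num at h10

variable [Fintype J] [Nontrivial I] [Nontrivial J]

/-- A row has a common point. -/
theorem Rook.exists_row (h : Rook d u) (hJ : Fintype.card J = 2 ∨ 4 ≤ Fintype.card J) (i : I) :
    ∃ x, ∀ j, u i j x ≠ 0 := by
  classical
  obtain ⟨i', hi⟩ := exists_ne i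
  obtain ⟨j₀, j₁, hj⟩ := exists_pair_ne J
  obtain ⟨x, hx0, hx1⟩ := exists_both_ne (u := u i j₀) (v := u i j₁)
    (by rw [h.row i _ _ hj]; exact one_ne_zero)
  refine ⟨x, fun j => ?_⟩
  by_cases hj0 : j = j₀
  · exact hj0 ▸ hx0
  by_cases hj1 : j = j₁
  · exact hj1 ▸ hx1
  have h4 : 4 ≤ Fintype.card J := by
    refine hJ.resolve_left fun h2 => ?_
    have h5 : ({j₀, j₁, j} : Finset J).card ≤ Fintype.card J := Finset.card_le_univ _
    rw [Finset.card_insert_of_notMem (by simp [hj, Ne.symm hj0]),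
      Finset.card_pair (Ne.symm hj1)] at h5
    omega
  obtain ⟨l, hl⟩ : ∃ l, l ∉ ({j₀, j₁, j} : Finset J) := by
    by_contra hno
    push Not at hno
    have h5 : (Finset.univ : Finset J).card ≤ ({j₀, j₁, j} : Finset J).card :=
      Finset.card_le_card fun a _ => hno a
    rw [Finset.card_univ] at h5
    have h6 : ({j₀, j₁, j} : Finset J).card ≤ 3 := Finset.card_le_three
    omega
  simp only [Finset.mem_insert, Finset.mem_singleton, not_or] at hl
  have hcinj : Function.Injective ![j₀, j₁, j, l] := by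
    have a1 := hj; have a2 := hj0; have a3 := hj1
    have a4 := hl.1; have a5 := hl.2.1; have a6 := hl.2.2
    intro m n hmn
    fin_cases m <;> fin_cases n <;> simp at hmn ⊢ <;>
      first
        | exact a1 hmn | exact a1 hmn.symm | exact a2 hmn | exact a2 hmn.symm
        | exact a3 hmn | exact a3 hmn.symm | exact a4 hmn | exact a4 hmn.symm
        | exact a5 hmn | exact a5 hmn.symm | exact a6 hmn | exact a6 hmn.symm
  obtain ⟨x', hx'⟩ := h.row_four (i := i) (Ne.symm hi) hcinj
  have : x = x' := (h.block i j₀).eq_of_both_ne h.pos (h.block i j₁) (h.row i _ _ hj) hx0 hx1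
    (hx' 0) (hx' 1)
  exact this ▸ hx' 2

variable [Fintype I]

/-- The points `x i`, `y j`, `z i j`. -/
theorem Rook.exists_points (h : Rook d u) (hJ : 4 ≤ Fintype.card J)
    (hI : Fintype.card I = 2 ∨ 4 ≤ Fintype.card I) :
    ∃ (x : I → E) (y : J → E) (z : I → J → E),
      (∀ i j, u i j (x i) ≠ 0 ∧ u i j (y j) ≠ 0 ∧ u i j (z i j) ≠ 0) ∧
      (∀ i j e, u i j e ≠ 0 → e = x i ∨ e = y j ∨ e = z i j) ∧
      Function.Injective (Sum.elim (Sum.elim x y) fun p : I × J => z p.1 p.2) := by
  classical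
  choose x hx using fun i => h.exists_row (Or.inr hJ) i
  choose y hy using fun j => h.transpose.exists_row hI j
  have hout : ∀ i i', i ≠ i' → ∀ j', u i' j' (x i) = 0 := by
    intro i i' hi j'
    refine core_eq_zero h.pos (K := ((Finset.univ.erase j').image fun k => u i k)) ?_ ?_ ?_ ?_
      (h.block i' j') ?_
    · intro k hk
      obtain ⟨l, -, rfl⟩ := Finset.mem_image.mp hk
      exact h.block i l
    · rw [Finset.card_image_of_injective _ fun k l hkl => by
        by_contra hne
        have h1 : u i k = u i l := hkl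
        have h2 := h.row i k l hne
        rw [h1, (h.block i l).norm] at h2
        norm_num at h2]
      rw [Finset.card_erase_of_mem (Finset.mem_univ _), Finset.card_univ]
      omega
    · intro k hk l hl hkl
      obtain ⟨k', -, rfl⟩ := Finset.mem_image.mp hk
      obtain ⟨l', -, rfl⟩ := Finset.mem_image.mp hl
      exact h.row i k' l' fun e => hkl (e ▸ rfl)
    · intro k hk
      obtain ⟨l, -, rfl⟩ := Finset.mem_image.mp hk
      exact hx i l
    · intro k hk
      obtain ⟨l, hl, rfl⟩ := Finset.mem_image.mp hk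
      exact h.far i' i j' l hi.symm (Finset.ne_of_mem_erase hl).symm
  have hxy : ∀ i j, x i ≠ y j := by
    intro i j e
    obtain ⟨i', hi⟩ := exists_ne i
    exact hy j i' (e ▸ hout i i' hi.symm j)
  have hyout : ∀ j k, j ≠ k → ∀ i, u i k (y j) = 0 := by
    intro j k hjk i
    by_contra hne
    exact hxy i j ((h.block i j).eq_of_both_ne h.pos (h.block i k) (h.row i j k hjk) (hx i j)
      (hx i k) (hy j i) hne)
  have hz : ∀ i j, ∃ e, u i j e ≠ 0 ∧ e ≠ x i ∧ e ≠ y j ∧
      ∀ a, u i j a ≠ 0 → a = x i ∨ a = y j ∨ a = e := by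
    intro i j
    set S := Finset.univ.filter fun e => u i j e ≠ 0 with hS
    have hab : ({x i, y j} : Finset E) ⊆ S := by
      intro e he
      rcases Finset.mem_insert.mp he with rfl | he
      · exact Finset.mem_filter.mpr ⟨Finset.mem_univ _, hx i j⟩
      · rw [Finset.mem_singleton] at he
        exact Finset.mem_filter.mpr ⟨Finset.mem_univ _, he ▸ hy j i⟩
    have h4 : (S \ {x i, y j}).card = 1 := by
      rw [Finset.card_sdiff_of_subset hab, (h.block i j).card_support,
        Finset.card_pair (hxy i j)]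
    obtain ⟨e, he⟩ := Finset.card_eq_one.mp h4
    have hmem := he ▸ Finset.mem_singleton_self e
    simp only [Finset.mem_sdiff, hS, Finset.mem_filter, Finset.mem_univ, true_and,
      Finset.mem_insert, Finset.mem_singleton, not_or] at hmem
    refine ⟨e, hmem.1, hmem.2.1, hmem.2.2, fun a ha => ?_⟩
    by_cases ha2 : a ∈ ({x i, y j} : Finset E)
    · simp only [Finset.mem_insert, Finset.mem_singleton] at ha2; tauto
    · exact Or.inr (Or.inr (Finset.mem_singleton.mp (he ▸ Finset.mem_sdiff.mpr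
        ⟨Finset.mem_filter.mpr ⟨Finset.mem_univ _, ha⟩, ha2⟩)))
  choose z hz1 hz2 hz3 hz4 using hz
  have hzinj : ∀ i j i' j', z i j = z i' j' → i = i' ∧ j = j' := by
    intro i j i' j' e
    by_cases hi : i = i'
    · subst hi
      refine ⟨rfl, by_contra fun hj => hz2 i j ?_⟩
      exact (h.block i j).eq_of_both_ne h.pos (h.block i j') (h.row i j j' hj) (hz1 i j)
        (e ▸ hz1 i j') (hx i j) (hx i j')
    · exfalso
      by_cases hj : j = j'
      · subst hj
        exact hz3 i j ((h.block i j).eq_of_both_ne h.pos (h.block i' j) (h.col i i' j hi) (hz1 i j)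
          (e ▸ hz1 i' j) (hy j i) (hy j i'))
      · obtain ⟨a, ha, ha1, ha2⟩ := exists_other (h.far i i' j j' hi hj) (hz1 i j) (e ▸ hz1 i' j')
        rcases hz4 i j a ha1 with rfl | rfl | rfl
        · exact ha2 (hout i i' hi j')
        · exact ha2 (hyout j j' hj i')
        · exact ha rfl
  have hzx : ∀ i j i', z i j ≠ x i' := by
    intro i j i' e
    by_cases hi : i' = i
    · exact hz2 i j (hi ▸ e)
    · exact hz1 i j (e ▸ hout i' i hi j)
  have hzy : ∀ i j j', z i j ≠ y j' := by
    intro i j j' e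
    by_cases hj : j' = j
    · exact hz3 i j (hj ▸ e)
    · exact hz1 i j (e ▸ hyout j' j hj i)
  refine ⟨x, y, z, fun i j => ⟨hx i j, hy j i, hz1 i j⟩, hz4, ?_⟩
  rintro ((a | a) | ⟨a, a'⟩) ((b | b) | ⟨b, b'⟩) e <;> simp only [Sum.elim_inl, Sum.elim_inr] at e
  · obtain ⟨j₀⟩ : Nonempty J := inferInstance
    by_contra hne
    have hab : a ≠ b := fun hab => hne (hab ▸ rfl)
    exact hx a j₀ (e ▸ hout b a hab.symm j₀)
  · exact absurd e (hxy a b)
  · exact absurd e.symm (hzx b b' a)
  · exact absurd e.symm (hxy b a)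
  · obtain ⟨i₀⟩ : Nonempty I := inferInstance
    by_contra hne
    have hab : a ≠ b := fun hab => hne (hab ▸ rfl)
    exact hy a i₀ (e ▸ hyout b a hab.symm i₀)
  · exact absurd e.symm (hzy b b' a)
  · exact absurd e (hzx a a' b)
  · exact absurd e (hzy a a' b)
  · obtain ⟨rfl, rfl⟩ := hzinj a a' b b' e
    rfl

end CfsgLib.CyclicTI
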