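import Cfsg.Agent.Lib.Char.CyclicTI.Family
import Cfsg.Agent.Lib.Char.CyclicTI.Rook
import Cfsg.Agent.Lib.Char.Exceptional.Virtual
import Cfsg.Agent.Lib.Char.Virtual

/-!
# Existence of the cyclic TI family
-/

set_option autoImplicit false

namespace CfsgLib.CyclicTI

open CfsgLib.Char
open scoped ComplexConjugate

variable {G : Type*} [Group G] [Fintype G] {W₁ W₂ : Subgroup G}

omit [Fintype G] in
theorem odd_card_left [Finite G] (hodd : Odd (Nat.card ↥(W₁ ⊔ W₂))) :
    Odd (Nat.card W₁) ∧ Odd (Nat.card W₂) :=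
  ⟨hodd.of_dvd_nat (Subgroup.card_dvd_of_le le_sup_left),
    hodd.of_dvd_nat (Subgroup.card_dvd_of_le le_sup_right)⟩

theorem card_ne (hW : Cfsg.IsSelfNormalizingCyclic W₁ W₂) : Nat.card W₁ ≠ Nat.card W₂ := by
  intro h
  have := hW.2.2.2.2.1
  have hle : W₁ ≤ W₂ := fun x hx =>
    Exceptional.mem_of_pow_card_eq_one (A := W₁ ⊔ W₂) le_sup_right (Subgroup.mem_sup_left hx)
      (by rw [← h]; exact orderOf_dvd_iff_pow_eq_one.mp (Subgroup.orderOf_dvd_natCard _ hx))
  exact hW.1 (eq_bot_iff.mpr (fun x hx => hW.2.2.1.le ⟨hx, hle hx⟩))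

open scoped Classical in
theorem card_nontrivial_hom {A : Type*} [Group A] [Finite A] (hA : ∀ a b : A, a * b = b * a)
    [Fintype {l : A →* ℂˣ // l ≠ 1}] :
    Fintype.card {l : A →* ℂˣ // l ≠ 1} = Nat.card A - 1 := by
  have := finite_hom A
  have := Fintype.ofFinite (A →* ℂˣ)
  rw [← card_hom hA, Nat.card_eq_fintype_card, Fintype.card_subtype_compl,
    Fintype.card_subtype_eq]

theorem exists_points (hW : Cfsg.IsSelfNormalizingCyclic W₁ W₂)
    (hodd : Odd (Nat.card ↥(W₁ ⊔ W₂))) :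
    ∃ (x : {l : W₁ →* ℂˣ // l ≠ 1} → Cfsg.IrrCharacter G)
      (y : {k : W₂ →* ℂˣ // k ≠ 1} → Cfsg.IrrCharacter G)
      (z : {l : W₁ →* ℂˣ // l ≠ 1} → {k : W₂ →* ℂˣ // k ≠ 1} → Cfsg.IrrCharacter G)
      (a : {l : W₁ →* ℂˣ // l ≠ 1} → ℤ) (b : {k : W₂ →* ℂˣ // k ≠ 1} → ℤ)
      (c : {l : W₁ →* ℂˣ // l ≠ 1} → {k : W₂ →* ℂˣ // k ≠ 1} → ℤ),
      Function.Injective (fun o : Option (({l : W₁ →* ℂˣ // l ≠ 1} ⊕ {k : W₂ →* ℂˣ // k ≠ 1}) ⊕
          ({l : W₁ →* ℂˣ // l ≠ 1} × {k : W₂ →* ℂˣ // k ≠ 1})) =>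
        o.elim (trivChar G) (Sum.elim (Sum.elim x y) fun p => z p.1 p.2)) ∧
      (∀ l, a l = 1 ∨ a l = -1) ∧ (∀ k, b k = 1 ∨ b k = -1) ∧ (∀ l k, c l k = 1 ∨ c l k = -1) ∧
      ∀ l k, Cfsg.indFun (W₁ ⊔ W₂) (alpha (inl hW l.1) (inr hW k.1)) =
        (trivChar G : G → ℂ) + (a l : ℂ) • (x l : G → ℂ) + (b k : ℂ) • (y k : G → ℂ) +
          (c l k : ℂ) • (z l k : G → ℂ) := by
  classical
  have := Fintype.ofFinite ↥(W₁ ⊔ W₂)
  have := Fintype.ofFinite (Cfsg.IrrCharacter G)
  have hA1 : ∀ a b : W₁, a * b = b * a := fun a b => Subtype.ext (congrArg Subtype.val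
    (W_comm hW ⟨a, Subgroup.mem_sup_left a.2⟩ ⟨b, Subgroup.mem_sup_left b.2⟩) :)
  have hA2 : ∀ a b : W₂, a * b = b * a := fun a b => Subtype.ext (congrArg Subtype.val
    (W_comm hW ⟨a, Subgroup.mem_sup_right a.2⟩ ⟨b, Subgroup.mem_sup_right b.2⟩) :)
  have := finite_hom W₁
  have := finite_hom W₂
  let I := {l : W₁ →* ℂˣ // l ≠ 1}
  let J := {k : W₂ →* ℂˣ // k ≠ 1}
  have : Fintype I := Fintype.ofFinite _
  have : Fintype J := Fintype.ofFinite _
  obtain ⟨ho1, ho2⟩ := odd_card_left hodd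
  have h1 : 3 ≤ Nat.card W₁ := by
    have hne : Nat.card W₁ ≠ 1 := fun h => hW.1 (Subgroup.card_eq_one.mp h)
    obtain ⟨r, hr⟩ := ho1
    omega
  have h2 : 3 ≤ Nat.card W₂ := by
    have hne : Nat.card W₂ ≠ 1 := fun h => hW.2.1 (Subgroup.card_eq_one.mp h)
    obtain ⟨r, hr⟩ := ho2
    omega
  have hcI : Fintype.card I = Nat.card W₁ - 1 := card_nontrivial_hom hA1
  have hcJ : Fintype.card J = Nat.card W₂ - 1 := card_nontrivial_hom hA2
  have hI : Fintype.card I = 2 ∨ 4 ≤ Fintype.card I := by obtain ⟨r, hr⟩ := ho1; omega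
  have hJ : Fintype.card J = 2 ∨ 4 ≤ Fintype.card J := by obtain ⟨r, hr⟩ := ho2; omega
  have hntI : Nontrivial I := Fintype.one_lt_card_iff_nontrivial.mp (by omega)
  have hntJ : Nontrivial J := Fintype.one_lt_card_iff_nontrivial.mp (by omega)
  let f : I → J → ↥(W₁ ⊔ W₂) → ℂ := fun l k => alpha (inl hW l.1) (inr hW k.1)
  let β : I → J → G → ℂ := fun l k => Cfsg.indFun (W₁ ⊔ W₂) (f l k) - (trivChar G : G → ℂ)
  have hne_inl : ∀ l : I, inl hW l.1 ≠ 1 := fun l e => l.2 (inl_injective hW (e.trans (inl_one hW).symm))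
  have hne_inr : ∀ k : J, inr hW k.1 ≠ 1 := fun k e => k.2 (inr_injective hW (e.trans (inr_one hW).symm))
  have hgen : ∀ l k, Cfsg.IsGeneralizedCharacter G (β l k) := by
    intro l k
    refine CfsgLib.Char.IsGen.sub (CfsgLib.Char.IsGen.indFun ?_) (CfsgLib.Char.IsGen.of_irr (trivChar G).2)
    have e : f l k = (fun w => ((1 : ↥(W₁ ⊔ W₂) →* ℂˣ) w : ℂ)) - (fun w => (inl hW l.1 w : ℂ)) -
        (fun w => (inr hW k.1 w : ℂ)) + fun w => ((inl hW l.1 * inr hW k.1) w : ℂ) := by
      funext w; simp [f, alpha]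
    rw [e]
    exact CfsgLib.Char.IsGen.add (CfsgLib.Char.IsGen.sub (CfsgLib.Char.IsGen.sub
      (CfsgLib.Char.IsGen.of_irr (isIrrCharacter_linear _))
      (CfsgLib.Char.IsGen.of_irr (isIrrCharacter_linear _)))
      (CfsgLib.Char.IsGen.of_irr (isIrrCharacter_linear _)))
      (CfsgLib.Char.IsGen.of_irr (isIrrCharacter_linear _))
  have hone : ∀ l k, Cfsg.classInner (Cfsg.indFun (W₁ ⊔ W₂) (f l k)) (trivChar G : G → ℂ) = 1 := by
    intro l k
    rw [frobenius_reciprocity _ _ (IsIrr.isClassFunction (trivChar G).2)]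
    refine (inner_alpha (φ := inl hW l.1) (ψ := inr hW k.1) 1).trans ?_
    rw [if_pos rfl, if_neg (hne_inl l), if_neg (hne_inr k), if_neg (fun e => hne_inl l
      ((mul_eq_mul_iff (inl_apply_W₂ hW _) (φ' := 1) (fun _ _ => rfl) (inr_apply_W₁ hW _) (ψ' := 1)
        (fun _ _ => rfl)).mp (by rw [e, hom_one_mul])).1)]
    ring
  have hββ : ∀ l k l' k', Cfsg.classInner (β l k) (β l' k') =
      (((if l = l' then 1 else 0) + (if k = k' then 1 else 0) +
        (if l = l' then 1 else 0) * (if k = k' then 1 else 0) : ℤ) : ℂ) := by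
    intro l k l' k'
    simp only [β]
    rw [classInner_sub_left, classInner_sub_right, classInner_sub_right,
      inner_indFun_indFun hW (inl_apply_W₂ hW _) (inr_apply_W₁ hW _) (inl_apply_W₂ hW _)
        (inr_apply_W₁ hW _),
      inner_alpha_alpha (inl_apply_W₂ hW _) (inr_apply_W₁ hW _) (inl_apply_W₂ hW _)
        (inr_apply_W₁ hW _) (hne_inl l) (hne_inr k) (hne_inl l') (hne_inr k'),
      classInner_irr_self, hone l k, ← classInner_conj_symm, hone l' k', map_one]
    have i1 : inl hW l.1 = inl hW l'.1 ↔ l = l' :=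
      ⟨fun e => Subtype.ext (inl_injective hW e), fun e => by rw [e]⟩
    have i2 : inr hW k.1 = inr hW k'.1 ↔ k = k' :=
      ⟨fun e => Subtype.ext (inr_injective hW e), fun e => by rw [e]⟩
    rw [if_congr i1 rfl rfl, if_congr i2 rfl rfl]
    split_ifs <;> norm_num
  choose m hm using fun l k => fun χ : Cfsg.IrrCharacter G =>
    CfsgLib.Char.IsGen.exists_classInner_eq_intCast (hgen l k) (CfsgLib.Char.IsGen.of_irr χ.2)
  have htriv : ∀ l k, m l k (trivChar G) = 0 := by
    intro l k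
    have h := hm l k (trivChar G)
    simp only [β] at h
    rw [classInner_sub_left, hone, classInner_irr_self, sub_self] at h
    exact_mod_cast h.symm
  have hexp : ∀ l k, β l k = ∑ χ : Cfsg.IrrCharacter G, (m l k χ : ℂ) • (χ : G → ℂ) := by
    intro l k
    conv_lhs => rw [classFunction_eq_sum (CfsgLib.Char.IsGen.isClassFunction (hgen l k))]
    exact Finset.sum_congr rfl fun χ _ => by rw [hm]
  choose deg hdeg0 hdeg using fun χ : Cfsg.IrrCharacter G => IsIrr.exists_degree χ.2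
  have hdot : ∀ l k l' k', ∑ χ, m l k χ * m l' k' χ =
      (if l = l' then 1 else 0) + (if k = k' then 1 else 0) +
        (if l = l' then 1 else 0) * (if k = k' then 1 else 0) := by
    intro l k l' k'
    have h := hββ l k l' k'
    rw [hexp l k, classInner_sum_left] at h
    simp only [classInner_smul_left] at h
    have h' : ∀ χ : Cfsg.IrrCharacter G, Cfsg.classInner (χ : G → ℂ) (β l' k') = (m l' k' χ : ℂ) :=
      fun χ => by rw [← classInner_conj_symm, hm, map_intCast]
    simp only [h'] at h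
    exact_mod_cast h
  have hrook : Rook (fun χ : Cfsg.IrrCharacter G => (deg χ : ℤ)) fun (l : I) (k : J) => m l k := by
    refine ⟨fun χ => by exact_mod_cast hdeg0 χ, fun l k => ⟨?_, ?_⟩, fun l k k' hk => ?_,
      fun l l' k hl => ?_, fun l l' k k' hl hk => ?_⟩
    · rw [hdot]; simp
    · have h := congrFun (hexp l k) 1
      simp only [β, Pi.sub_apply, Finset.sum_apply, Pi.smul_apply, smul_eq_mul, indFun_apply_one,
        hdeg] at h
      have h0 : f l k 1 = 0 := by simp [f, alpha]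
      rw [h0, mul_zero, zero_sub, show (deg (trivChar G) : ℂ) = 1 by rw [← hdeg, trivChar_apply]] at h
      have h3 : ((∑ χ, (deg χ : ℤ) * m l k χ : ℤ) : ℂ) = ((-1 : ℤ) : ℂ) := by
        push_cast
        rw [h]
        exact Finset.sum_congr rfl fun χ _ => mul_comm _ _
      exact_mod_cast h3
    · rw [hdot]; simp [hk]
    · rw [hdot]; simp [hl]
    · rw [hdot]; simp [hl, hk]
  obtain ⟨x, y, z, hne, hsupp, hinj⟩ : ∃ (x : I → Cfsg.IrrCharacter G) (y : J → Cfsg.IrrCharacter G)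
      (z : I → J → Cfsg.IrrCharacter G),
      (∀ i j, m i j (x i) ≠ 0 ∧ m i j (y j) ≠ 0 ∧ m i j (z i j) ≠ 0) ∧
      (∀ i j e, m i j e ≠ 0 → e = x i ∨ e = y j ∨ e = z i j) ∧
      Function.Injective (Sum.elim (Sum.elim x y) fun p : I × J => z p.1 p.2) := by
    by_cases h4 : 4 ≤ Fintype.card J
    · exact hrook.exists_points h4 hI
    · have hne := card_ne hW
      have h4' : 4 ≤ Fintype.card I := by omega
      obtain ⟨x, y, z, hne, hsupp, hinj⟩ := hrook.transpose.exists_points h4' hJ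
      refine ⟨y, x, fun i j => z j i, fun i j => ⟨(hne j i).2.1, (hne j i).1, (hne j i).2.2⟩,
        fun i j e he => ?_, ?_⟩
      · rcases hsupp j i e he with h | h | h
        exacts [Or.inr (Or.inl h), Or.inl h, Or.inr (Or.inr h)]
      · let σ : (I ⊕ J) ⊕ (I × J) → (J ⊕ I) ⊕ (J × I) := Sum.map Sum.swap Prod.swap
        have hσ : Function.Injective σ :=
          Sum.map_injective.mpr ⟨Sum.swap_leftInverse.injective, Prod.swap_injective⟩
        have e : (Sum.elim (Sum.elim y x) fun p : I × J => z p.2 p.1) =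
            (Sum.elim (Sum.elim x y) fun p : J × I => z p.1 p.2) ∘ σ := by
          funext o
          rcases o with (i | j) | p <;> rfl
        rw [e]
        exact hinj.comp hσ
  obtain ⟨k₀⟩ : Nonempty J := inferInstance
  obtain ⟨l₀⟩ : Nonempty I := inferInstance
  have hsgn : ∀ i j e, m i j e ≠ 0 → m i j e = 1 ∨ m i j e = -1 := fun i j e he => by
    rcases (hrook.block i j).eq_sign e with h | h | h
    exacts [Or.inr h, absurd h he, Or.inl h]
  have hxs : ∀ i j, m i j (x i) = m i k₀ (x i) := fun i j => by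
    by_cases hj : j = k₀
    · rw [hj]
    · exact (hrook.block i j).apply_eq hrook.pos (hrook.block i k₀) (hrook.row i j k₀ hj)
        (hne i j).1 (hne i k₀).1
  have hys : ∀ i j, m i j (y j) = m l₀ j (y j) := fun i j => by
    by_cases hi : i = l₀
    · rw [hi]
    · exact (hrook.block i j).apply_eq hrook.pos (hrook.block l₀ j) (hrook.col i l₀ j hi)
        (hne i j).2.1 (hne l₀ j).2.1
  refine ⟨x, y, z, fun i => m i k₀ (x i), fun j => m l₀ j (y j), fun i j => m i j (z i j), ?_,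
    fun i => hsgn _ _ _ (hne i k₀).1, fun j => hsgn _ _ _ (hne l₀ j).2.1,
    fun i j => hsgn _ _ _ (hne i j).2.2, fun l k => ?_⟩
  · have hnt : ∀ o, (Sum.elim (Sum.elim x y) fun p : I × J => z p.1 p.2) o ≠ trivChar G := by
      intro o ho
      rcases o with (i | j) | ⟨i, j⟩
      · exact (hne i k₀).1 (show m i k₀ (x i) = 0 by rw [show x i = trivChar G from ho]; exact htriv i k₀)
      · exact (hne l₀ j).2.1 (show m l₀ j (y j) = 0 by rw [show y j = trivChar G from ho]; exact htriv l₀ j)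
      · exact (hne i j).2.2 (show m i j (z i j) = 0 by rw [show z i j = trivChar G from ho]; exact htriv i j)
    intro o o' h
    rcases o with _ | o <;> rcases o' with _ | o'
    · rfl
    · exact absurd h.symm (hnt o')
    · exact absurd h (hnt o)
    · exact congrArg some (hinj h)
  · have hinj3 : x l ≠ y k ∧ x l ≠ z l k ∧ y k ≠ z l k := by
      refine ⟨fun e => ?_, fun e => ?_, fun e => ?_⟩
      · exact absurd (hinj (a₁ := Sum.inl (Sum.inl l)) (a₂ := Sum.inl (Sum.inr k)) e) (by simp)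
      · exact absurd (hinj (a₁ := Sum.inl (Sum.inl l)) (a₂ := Sum.inr (l, k)) e) (by simp)
      · exact absurd (hinj (a₁ := Sum.inl (Sum.inr k)) (a₂ := Sum.inr (l, k)) e) (by simp)
    have h := hexp l k
    rw [← Finset.sum_subset (Finset.subset_univ {x l, y k, z l k}) (fun e _ he => by
        simp only [Finset.mem_insert, Finset.mem_singleton, not_or] at he
        have h0 : m l k e = 0 := by
          by_contra hh
          rcases hsupp l k e hh with h | h | h
          exacts [he.1 h, he.2.1 h, he.2.2 h]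
        rw [h0, Int.cast_zero, zero_smul]),
      Finset.sum_insert (by simp [hinj3.1, hinj3.2.1]), Finset.sum_pair hinj3.2.2, hxs l k,
      hys l k] at h
    simp only [β, sub_eq_iff_eq_add] at h
    rw [show Cfsg.indFun (W₁ ⊔ W₂) (alpha (inl hW l.1) (inr hW k.1)) = _ from h]
    abel

open scoped Classical in
theorem exists_family (hW : Cfsg.IsSelfNormalizingCyclic W₁ W₂)
    (hodd : Odd (Nat.card ↥(W₁ ⊔ W₂))) :
    ∃ χ : (↥(W₁ ⊔ W₂) →* ℂˣ) → (G → ℂ), Cfsg.IsCyclicTIFamily W₁ W₂ χ := by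
  have := Fintype.ofFinite ↥(W₁ ⊔ W₂)
  obtain ⟨x, y, z, a, b, c, hinj, ha, hb, hc, hind⟩ := exists_points hW hodd
  choose L K hLK using exists_eq_mul hW
  have hdec : ∀ l k, L (inl hW l * inr hW k) = l ∧ K (inl hW l * inr hW k) = k :=
    fun l k => mul_inj hW (hLK _)
  let I := {l : W₁ →* ℂˣ // l ≠ 1}
  let J := {k : W₂ →* ℂˣ // k ≠ 1}
  let code : (W₁ →* ℂˣ) → (W₂ →* ℂˣ) → Option ((I ⊕ J) ⊕ (I × J)) := fun l k =>
    if hl : l = 1 then (if hk : k = 1 then none else some (Sum.inl (Sum.inr ⟨k, hk⟩)))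
    else (if hk : k = 1 then some (Sum.inl (Sum.inl ⟨l, hl⟩)) else some (Sum.inr (⟨l, hl⟩, ⟨k, hk⟩)))
  let irr : Option ((I ⊕ J) ⊕ (I × J)) → Cfsg.IrrCharacter G := fun o =>
    o.elim (trivChar G) (Sum.elim (Sum.elim x y) fun p => z p.1 p.2)
  let sg : Option ((I ⊕ J) ⊕ (I × J)) → ℤ := fun o =>
    o.elim 1 (Sum.elim (Sum.elim (fun l => -a l) fun k => -b k) fun p => c p.1 p.2)
  have hsg : ∀ o, sg o = 1 ∨ sg o = -1 := by
    rintro (_ | (l | k) | p)
    · exact Or.inl rfl
    · rcases ha l with h | h <;> simp [sg, h]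
    · rcases hb k with h | h <;> simp [sg, h]
    · exact hc p.1 p.2
  let χ : (↥(W₁ ⊔ W₂) →* ℂˣ) → G → ℂ := fun ω =>
    (sg (code (L ω) (K ω)) : ℂ) • (irr (code (L ω) (K ω)) : G → ℂ)
  have hcode : ∀ ω ω', code (L ω) (K ω) = code (L ω') (K ω') → ω = ω' := by
    intro ω ω' h
    have h2 : L ω = L ω' ∧ K ω = K ω' := by
      have dec : ∀ l k, (code l k).elim ((1 : W₁ →* ℂˣ), (1 : W₂ →* ℂˣ))
          (Sum.elim (Sum.elim (fun i => (i.1, 1)) fun j => (1, j.1)) fun p => (p.1.1, p.2.1)) = (l, k) := by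
        intro l k
        by_cases hl : l = 1 <;> by_cases hk : k = 1 <;> simp [code, hl, hk]
      have e := dec (L ω) (K ω)
      rw [h, dec] at e
      exact ⟨(congrArg Prod.fst e).symm, (congrArg Prod.snd e).symm⟩
    rw [← hLK ω, ← hLK ω', h2.1, h2.2]
  have horth : ∀ ω ω', Cfsg.classInner (χ ω) (χ ω') = if ω = ω' then 1 else 0 := by
    intro ω ω'
    simp only [χ]
    rw [classInner_smul_left, classInner_smul_right]
    by_cases h : ω = ω'
    · subst h
      rw [if_pos rfl, classInner_irr_self]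
      rcases hsg (code (L ω) (K ω)) with e | e <;> simp [e]
    · rw [if_neg h, classInner_irr_of_ne (fun e => h (hcode ω ω' (hinj e)))]
      simp
  have hone : χ 1 = fun _ => 1 := by
    have h1 := hdec 1 1
    rw [inl_one, inr_one, hom_one_mul] at h1
    funext g
    simp [χ, h1.1, h1.2, code, sg, irr]
  have hformula : ∀ l k, Cfsg.indFun (W₁ ⊔ W₂) (alpha (inl hW l) (inr hW k)) =
      χ 1 - χ (inl hW l) - χ (inr hW k) + χ (inl hW l * inr hW k) := by
    intro l k
    by_cases hl : l = 1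
    · subst hl
      rw [inl_one, hom_one_mul]
      have : alpha (1 : ↥(W₁ ⊔ W₂) →* ℂˣ) (inr hW k) = 0 := by funext w; simp [alpha]
      rw [this, indFun_zero]
      abel
    by_cases hk : k = 1
    · subst hk
      rw [inr_one, hom_mul_one]
      have : alpha (inl hW l) (1 : ↥(W₁ ⊔ W₂) →* ℂˣ) = 0 := by funext w; simp [alpha]
      rw [this, indFun_zero]
      abel
    have d1 := hdec l 1
    rw [inr_one, hom_mul_one] at d1
    have d2 := hdec 1 k
    rw [inl_one, hom_one_mul] at d2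
    obtain ⟨d3, d3'⟩ := hdec l k
    rw [hind ⟨l, hl⟩ ⟨k, hk⟩, hone]
    simp only [χ, d1.1, d1.2, d2.1, d2.2, d3, d3']
    simp [code, hl, hk, sg, irr]
    funext g
    simp
  refine ⟨χ, ⟨fun ω => ?_, fun ω ω' => by convert horth ω ω', hone, ?_, ?_⟩⟩
  · rcases hsg (code (L ω) (K ω)) with e | e
    · exact Or.inl (by simp only [χ, e, Int.cast_one, one_smul]; exact (irr _).2)
    · exact Or.inr (by simp only [χ, e, Int.cast_neg, Int.cast_one, neg_smul, one_smul, neg_neg]; exact (irr _).2)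
  · intro ω w hw₁ hw₂
    have hclass : Cfsg.IsClassFunction G (χ ω) := fun g h => by
      simp only [χ, Pi.smul_apply, smul_eq_mul]
      rw [IsIrr.isClassFunction (irr _).2 g h]
    have h0 := eq_zero_of_inner_alpha hW
      (f := fun v : ↥(W₁ ⊔ W₂) => if (v : G) ∈ W₁ ∨ (v : G) ∈ W₂ then 0 else χ ω v - (ω v : ℂ))
      (fun v hv => if_pos hv) fun l k => by
        have e : Cfsg.classInner (fun v : ↥(W₁ ⊔ W₂) =>
            if (v : G) ∈ W₁ ∨ (v : G) ∈ W₂ then 0 else χ ω v - (ω v : ℂ))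
            (alpha (inl hW l) (inr hW k)) =
            Cfsg.classInner ((fun v : ↥(W₁ ⊔ W₂) => χ ω v) - fun v => (ω v : ℂ))
              (alpha (inl hW l) (inr hW k)) := by
          simp only [Cfsg.classInner]
          congr 1
          refine Finset.sum_congr rfl fun v _ => ?_
          by_cases hv : (v : G) ∈ W₁ ∨ (v : G) ∈ W₂
          · rw [alpha_eq_zero (inl_apply_W₂ hW l) (inr_apply_W₁ hW k) hv, map_zero, mul_zero, mul_zero]
          · rw [if_neg hv]; rfl
        rw [e, classInner_sub_left, ← inner_indFun_alpha hclass, hformula, ← classInner_conj_symm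
          (φ := alpha (inl hW l) (inr hW k)), inner_alpha, classInner_add_right, classInner_sub_right,
          classInner_sub_right, horth, horth, horth, horth]
        simp only [eq_comm (a := ω)]
        rw [map_add, map_sub, map_sub]
        split_ifs <;> simp
    have h1 := congrFun h0 w
    rw [if_neg (by rintro (h | h) <;> contradiction), Pi.zero_apply, sub_eq_zero] at h1
    exact h1
  · intro φ ψ _ _ hφ hψ
    obtain ⟨l, rfl⟩ := exists_inl hW hφ
    obtain ⟨k, rfl⟩ := exists_inr hW hψ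
    refine Eq.trans (hformula l k) ?_
    rw [hone]
    rfl

end CfsgLib.CyclicTI
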