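import Mathlib.GroupTheory.SchurZassenhaus
import Mathlib.LinearAlgebra.Matrix.Basis
import Mathlib.LinearAlgebra.Matrix.Trace
import Mathlib.LinearAlgebra.Projection
import Mathlib.LinearAlgebra.Matrix.NonsingularInverse
import Mathlib.LinearAlgebra.Dimension.Constructions
import Mathlib.LinearAlgebra.FreeModule.Finite.Basic
import Mathlib.GroupTheory.PGroup
import Mathlib.Data.ZMod.Basic
import Mathlib.RingTheory.Nilpotent.Basic
import Mathlib.LinearAlgebra.Basis.VectorSpace
import Mathlib.Algebra.Field.ZMod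
import Mathlib.LinearAlgebra.FiniteDimensional.Basic

/-!
# Lifting of matrices from `ZMod p` to `ZMod (p ^ n)`

* `exists_lift`: a matrix representation of a group of order prime to `p` lifts;
* `trace_idem`: the trace of an idempotent is the rank of its reduction.
-/

set_option autoImplicit false

namespace CfsgLib.IdemLift

variable {p n : ℕ}

/-- Reduction modulo `p`. -/
def red (hn : n ≠ 0) : ZMod (p ^ n) →+* ZMod p :=
  ZMod.castHom (dvd_pow_self p hn) (ZMod p)

variable (hn : n ≠ 0)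

theorem exists_mul_of_red_eq_zero [Fact p.Prime] {a : ZMod (p ^ n)} (h : red hn a = 0) :
    ∃ b : ZMod (p ^ n), a = (p : ZMod (p ^ n)) * b := by
  have : NeZero (p ^ n) := ⟨pow_ne_zero _ (Fact.out : p.Prime).ne_zero⟩
  rw [← ZMod.natCast_zmod_val a, map_natCast, ZMod.natCast_eq_zero_iff] at h
  obtain ⟨c, hc⟩ := h
  exact ⟨(c : ZMod (p ^ n)), by rw [← Nat.cast_mul, ← hc, ZMod.natCast_zmod_val]⟩

variable {κ : Type*} [Fintype κ] [DecidableEq κ]

theorem pow_eq_zero_of_map_eq_zero [Fact p.Prime] {A : Matrix κ κ (ZMod (p ^ n))}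
    (h : A.map (red hn) = 0) : A ^ n = 0 := by
  choose B hB using fun i j => exists_mul_of_red_eq_zero hn
    (show red hn (A i j) = 0 from congrFun (congrFun h i) j)
  have e : A = (p : ZMod (p ^ n)) • Matrix.of B := Matrix.ext fun i j => by
    simp [hB i j]
  rw [e, smul_pow, ← Nat.cast_pow, ZMod.natCast_self, zero_smul]

theorem isUnit_one_add_of_map_eq_zero [Fact p.Prime] {A : Matrix κ κ (ZMod (p ^ n))}
    (h : A.map (red hn) = 0) : IsUnit (1 + A) :=
  IsNilpotent.isUnit_one_add ⟨n, pow_eq_zero_of_map_eq_zero hn h⟩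

theorem isUnit_of_map_isUnit [Fact p.Prime] {A : Matrix κ κ (ZMod (p ^ n))}
    (h : IsUnit (A.map (red hn))) : IsUnit A := by
  have : NeZero (p ^ n) := ⟨pow_ne_zero _ (Fact.out : p.Prime).ne_zero⟩
  obtain ⟨u, hu⟩ := h
  choose B hB using fun i j => ZMod.castHom_surjective (dvd_pow_self p hn)
    (((u⁻¹ : (Matrix κ κ (ZMod p))ˣ) : Matrix κ κ (ZMod p)) i j)
  have hBm : (Matrix.of B).map (red hn) = ((u⁻¹ : (Matrix κ κ (ZMod p))ˣ) : Matrix κ κ (ZMod p)) :=
    Matrix.ext fun i j => hB i j
  have hmap : (A * Matrix.of B - 1).map (red hn) = 0 := by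
    have : (red (p := p) hn).mapMatrix (A * Matrix.of B - 1) = 0 := by
      rw [map_sub, map_mul, map_one, RingHom.mapMatrix_apply, RingHom.mapMatrix_apply, hBm, ← hu,
        Units.mul_inv, sub_self]
    exact this
  have h1 := isUnit_one_add_of_map_eq_zero hn hmap
  rw [add_sub_cancel] at h1
  rw [Matrix.isUnit_iff_isUnit_det, Matrix.det_mul] at h1
  exact (Matrix.isUnit_iff_isUnit_det A).mpr (isUnit_of_mul_isUnit_left h1)

/-- Reduction on invertible matrices. -/
noncomputable def redGL : (Matrix κ κ (ZMod (p ^ n)))ˣ →* (Matrix κ κ (ZMod p))ˣ :=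
  Units.map (red (p := p) hn).mapMatrix.toMonoidHom

theorem redGL_surjective [Fact p.Prime] : Function.Surjective (redGL (κ := κ) (p := p) hn) := by
  have : NeZero (p ^ n) := ⟨pow_ne_zero _ (Fact.out : p.Prime).ne_zero⟩
  intro u
  choose B hB using fun i j => ZMod.castHom_surjective (dvd_pow_self p hn)
    ((u : Matrix κ κ (ZMod p)) i j)
  have hBm : (Matrix.of B).map (red hn) = (u : Matrix κ κ (ZMod p)) :=
    Matrix.ext fun i j => hB i j
  obtain ⟨w, hw⟩ := isUnit_of_map_isUnit hn (A := Matrix.of B) (hBm ▸ u.isUnit)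
  refine ⟨w, Units.ext ?_⟩
  show (w : Matrix κ κ (ZMod (p ^ n))).map (red hn) = _
  rw [hw, hBm]

theorem card_ker_redGL [Fact p.Prime] :
    ∃ k, Nat.card (redGL (κ := κ) (p := p) hn).ker = p ^ k := by
  have : NeZero (p ^ n) := ⟨pow_ne_zero _ (Fact.out : p.Prime).ne_zero⟩
  let add := (red (p := p) hn).mapMatrix.toAddMonoidHom (α := Matrix κ κ (ZMod (p ^ n)))
  let e : (redGL (κ := κ) (p := p) hn).ker ≃ add.ker :=
    { toFun := fun x => ⟨((x.1 : (Matrix κ κ (ZMod (p ^ n)))ˣ) : Matrix κ κ (ZMod (p ^ n))) - 1, by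
        have h := congrArg Units.val (MonoidHom.mem_ker.mp x.2)
        show (red (p := p) hn).mapMatrix _ = 0
        rw [map_sub, map_one, sub_eq_zero]
        exact h⟩
      invFun := fun A => ⟨(isUnit_one_add_of_map_eq_zero hn (A := A.1) A.2).unit, by
        rw [MonoidHom.mem_ker]
        refine Units.ext ?_
        show (red (p := p) hn).mapMatrix (1 + A.1) = 1
        rw [map_add, map_one, show (red (p := p) hn).mapMatrix A.1 = 0 from A.2, add_zero]⟩
      left_inv := fun x => Subtype.ext (Units.ext (by simp))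
      right_inv := fun A => Subtype.ext (by simp) }
  rw [Nat.card_congr e]
  have h := AddSubgroup.card_addSubgroup_dvd_card add.ker
  have hc : Nat.card (Matrix κ κ (ZMod (p ^ n))) = p ^ (n * (Fintype.card κ * Fintype.card κ)) := by
    simp [Matrix, Nat.card_eq_fintype_card, ← pow_mul, ← mul_assoc]
  rw [hc, Nat.dvd_prime_pow (Fact.out : p.Prime)] at h
  obtain ⟨k, -, hk⟩ := h
  exact ⟨k, hk⟩

/-- A representation of a group of order prime to `p` lifts to `ZMod (p ^ n)`. -/
theorem exists_lift [Fact p.Prime] {Γ : Type*} [Group Γ] [Finite Γ]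
    (hΓ : (Nat.card Γ).Coprime p) (ρ : Γ →* (Matrix κ κ (ZMod p))ˣ) :
    ∃ ρ' : Γ →* (Matrix κ κ (ZMod (p ^ n)))ˣ, ∀ g, redGL hn (ρ' g) = ρ g := by
  have : NeZero (p ^ n) := ⟨pow_ne_zero _ (Fact.out : p.Prime).ne_zero⟩
  let fstH := MonoidHom.fst (Matrix κ κ (ZMod (p ^ n)))ˣ Γ
  let sndH := MonoidHom.snd (Matrix κ κ (ZMod (p ^ n)))ˣ Γ
  let M : Subgroup ((Matrix κ κ (ZMod (p ^ n)))ˣ × Γ) :=
    MonoidHom.eqLocus ((redGL hn).comp fstH) (ρ.comp sndH)
  let s : M →* Γ := sndH.comp M.subtype
  have hs : Function.Surjective s := fun g => by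
    obtain ⟨x, hx⟩ := redGL_surjective hn (ρ g)
    exact ⟨⟨(x, g), hx⟩, rfl⟩
  have hk : ∃ k, Nat.card s.ker = p ^ k := by
    obtain ⟨k, hk⟩ := card_ker_redGL (κ := κ) (p := p) hn
    refine ⟨k, Eq.trans (Nat.card_congr (β := (redGL (κ := κ) (p := p) hn).ker)
      ⟨fun x => ⟨x.1.1.1, ?_⟩,
      fun y => ⟨⟨(y.1, 1), ?_⟩, MonoidHom.mem_ker.mpr rfl⟩, fun x => ?_, fun y => rfl⟩) hk⟩
    · have h1 : redGL hn x.1.1.1 = ρ x.1.1.2 := x.1.2
      have h2 : x.1.1.2 = 1 := MonoidHom.mem_ker.mp x.2
      rw [MonoidHom.mem_ker, h1, h2, map_one]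
    · show redGL hn y.1 = ρ 1
      rw [map_one, MonoidHom.mem_ker.mp y.2]
    · have h2 : x.1.1.2 = 1 := MonoidHom.mem_ker.mp x.2
      exact Subtype.ext (Subtype.ext (Prod.ext rfl h2.symm))
  obtain ⟨k, hk⟩ := hk
  have hidx : s.ker.index = Nat.card Γ := by
    rw [Subgroup.index_ker, MonoidHom.range_eq_top.mpr hs, Subgroup.card_top]
  obtain ⟨C, hC⟩ := Subgroup.exists_right_complement'_of_coprime (N := s.ker)
    (by rw [hk, hidx]; exact (hΓ.pow_right k).symm)
  let t : C →* Γ := s.comp C.subtype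
  have ht : Function.Bijective t := by
    refine (Nat.bijective_iff_injective_and_card t).mpr ⟨fun a b hab => ?_, ?_⟩
    · have h1 : ((a * b⁻¹ : C) : M) ∈ s.ker := by
        rw [MonoidHom.mem_ker]
        show t (a * b⁻¹) = 1
        rw [map_mul, map_inv, hab, mul_inv_cancel]
      have h2 := hC.disjoint.le_bot ⟨h1, (a * b⁻¹).2⟩
      rw [Subgroup.mem_bot, OneMemClass.coe_eq_one, mul_inv_eq_one] at h2
      exact h2
    · rw [← hidx, hC.symm.index_eq_card]
  let e : C ≃* Γ := MulEquiv.ofBijective t ht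
  refine ⟨(fstH.comp M.subtype).comp (C.subtype.comp e.symm.toMonoidHom), fun g => ?_⟩
  have h1 : redGL hn ((e.symm g : C) : M).1.1 = ρ ((e.symm g : C) : M).1.2 := ((e.symm g : C) : M).2
  have h2 : ((e.symm g : C) : M).1.2 = g := e.apply_symm_apply g
  rw [h2] at h1
  exact h1

/-- The trace of an idempotent is the rank of its reduction. -/
theorem trace_idem [Fact p.Prime] {e : Matrix κ κ (ZMod (p ^ n))} (he : e * e = e) :
    e.trace = (Module.finrank (ZMod p) (LinearMap.range (Matrix.toLin' (e.map (red hn)))) :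
      ZMod (p ^ n)) := by
  classical
  have : NeZero (p ^ n) := ⟨pow_ne_zero _ (Fact.out : p.Prime).ne_zero⟩
  set ē : Matrix κ κ (ZMod p) := e.map (red hn) with hē
  set T := Matrix.toLin' ē with hT
  have hēe : ē * ē = ē := by
    have := congrArg (red (p := p) hn).mapMatrix he
    rwa [map_mul] at this
  have hTT : ∀ v, T (T v) = T v := fun v => by
    rw [hT, Matrix.toLin'_apply, Matrix.toLin'_apply, Matrix.mulVec_mulVec, hēe]
  have hcompl : IsCompl (LinearMap.range T) (LinearMap.ker T) := by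
    refine ⟨Submodule.disjoint_def.mpr fun v hv hv' => ?_, codisjoint_iff.mpr ?_⟩
    · obtain ⟨w, rfl⟩ := hv
      rw [LinearMap.mem_ker, hTT] at hv'
      exact hv'
    · refine eq_top_iff.mpr fun v _ => ?_
      have : v = T v + (v - T v) := by abel
      rw [this]
      exact Submodule.add_mem_sup ⟨v, rfl⟩ (by rw [LinearMap.mem_ker, map_sub, hTT, sub_self])
  let b0 := ((Module.finBasis (ZMod p) (LinearMap.range T)).prod
    (Module.finBasis (ZMod p) (LinearMap.ker T))).map (Submodule.prodEquivOfIsCompl _ _ hcompl)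
  let σ := b0.indexEquiv (Pi.basisFun (ZMod p) κ)
  let b := b0.reindex σ
  let ind : κ → ℕ := fun j => if (σ.symm j).isLeft then 1 else 0
  have hTb : ∀ j, T (b j) = (ind j : ZMod p) • b j := by
    intro j
    simp only [b, Module.Basis.reindex_apply, b0, Module.Basis.map_apply, ind]
    rcases σ.symm j with i | i
    · simp only [Module.Basis.prod_apply, Sum.elim_inl, Function.comp_apply,
        LinearMap.coe_inl, Submodule.coe_prodEquivOfIsCompl',
        ZeroMemClass.coe_zero, add_zero, Sum.isLeft_inl, if_true, Nat.cast_one, one_smul]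
      obtain ⟨w, hw⟩ := (Module.finBasis (ZMod p) (LinearMap.range T) i).2
      rw [← hw, hTT]
    · simp only [Module.Basis.prod_apply, Sum.elim_inr, Function.comp_apply,
        LinearMap.coe_inr, Submodule.coe_prodEquivOfIsCompl',
        ZeroMemClass.coe_zero, zero_add, Sum.isLeft_inr, Bool.false_eq_true, if_false,
        Nat.cast_zero, zero_smul]
      exact (Module.finBasis (ZMod p) (LinearMap.ker T) i).2
  let Pb : Matrix κ κ (ZMod p) := (Pi.basisFun (ZMod p) κ).toMatrix b
  have hPu : IsUnit Pb := by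
    have := (Pi.basisFun (ZMod p) κ).invertibleToMatrix b
    exact isUnit_of_invertible _
  obtain ⟨u, hu⟩ := hPu
  obtain ⟨w, hw⟩ := redGL_surjective (p := p) hn u
  set D : Matrix κ κ (ZMod (p ^ n)) := Matrix.diagonal fun j => (ind j : ZMod (p ^ n)) with hD
  have hDm : D.map (red hn) = Matrix.diagonal fun j => (ind j : ZMod p) := by
    rw [hD, Matrix.diagonal_map (map_zero _)]
    simp
  have hcomm : ē * Pb = Pb * Matrix.diagonal fun j => (ind j : ZMod p) := by
    ext i j
    rw [Matrix.mul_diagonal]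
    have h1 : (ē * Pb) i j = T (b j) i := by
      rw [hT, Matrix.toLin'_apply]
      simp [Matrix.mul_apply, Matrix.mulVec, dotProduct, Pb, Module.Basis.toMatrix_apply]
    rw [h1, hTb]
    simp only [Pb, Module.Basis.toMatrix_apply, Pi.basisFun_repr, Pi.smul_apply, smul_eq_mul]
    ring
  set f : Matrix κ κ (ZMod (p ^ n)) :=
    ((w⁻¹ : (Matrix κ κ (ZMod (p ^ n)))ˣ) : Matrix κ κ (ZMod (p ^ n))) * e * w with hf
  have hff : f * f = f := by
    rw [hf]
    simp only [mul_assoc, Units.mul_inv_cancel_left]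
    rw [← mul_assoc e e, he]
  have hw' : (red (p := p) hn).mapMatrix (w : Matrix κ κ (ZMod (p ^ n))) = Pb := by
    rw [← hu]; exact congrArg Units.val hw
  have hfm : (red (p := p) hn).mapMatrix f = (red (p := p) hn).mapMatrix D := by
    have h1 : (red (p := p) hn).mapMatrix (w : Matrix κ κ (ZMod (p ^ n))) *
        (red (p := p) hn).mapMatrix f = Pb * (red (p := p) hn).mapMatrix D := by
      rw [← map_mul, hf, ← mul_assoc, Units.mul_inv_cancel_left, map_mul, hw']
      rw [show (red (p := p) hn).mapMatrix e = ē from rfl,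
        show (red (p := p) hn).mapMatrix D = _ from hDm, hcomm]
    rw [hw', ← hu] at h1
    exact u.isUnit.mul_left_cancel h1
  have hDD : D * D = D := by
    rw [hD, Matrix.diagonal_mul_diagonal]
    congr 1
    funext j
    simp only [ind]
    split_ifs <;> simp
  obtain ⟨c, hc⟩ : IsUnit (f * D + (1 - f) * (1 - D)) := by
    refine isUnit_of_map_isUnit hn ?_
    rw [show (f * D + (1 - f) * (1 - D)).map (red hn) = 1 from ?_]
    · exact isUnit_one
    show (red (p := p) hn).mapMatrix _ = 1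
    rw [map_add, map_mul _ f D, map_mul _ (1 - f), map_sub, map_sub, map_one, hfm]
    have h2 : (red (p := p) hn).mapMatrix D * (red (p := p) hn).mapMatrix D =
        (red (p := p) hn).mapMatrix D := by rw [← map_mul, hDD]
    rw [sub_mul, one_mul, mul_sub, mul_one, h2]
    abel
  clear_value f
  have hint : f * c = c * D := by
    rw [hc, mul_add, add_mul, ← mul_assoc, hff, ← mul_assoc f, mul_sub f, mul_one, hff, sub_self,
      zero_mul, add_zero, mul_assoc (1 - f), sub_mul 1 D, one_mul, hDD, sub_self, mul_zero,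
      add_zero, mul_assoc, hDD]
  have htr : f.trace = D.trace := by
    have : f = c * D * (c⁻¹ : (Matrix κ κ (ZMod (p ^ n)))ˣ) := by
      rw [← hint, Units.mul_inv_cancel_right]
    rw [this, Matrix.trace_units_conj]
  rw [show e.trace = f.trace by rw [hf, Matrix.trace_units_conj'], htr, hD, Matrix.trace_diagonal,
    ← Nat.cast_sum]
  congr 1
  simp only [ind]
  rw [← Equiv.sum_comp σ, Fintype.sum_sum_type]
  simp

end CfsgLib.IdemLift
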