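import Cfsg.Prelude.Def_OddOrderLocal
import Mathlib.GroupTheory.SpecificGroups.Cyclic
import Mathlib.GroupTheory.Perm.Cycle.Type
import Mathlib.GroupTheory.Complement
import Mathlib.GroupTheory.GroupAction.ConjAct

/-!
# Semidirect configurations `L = K W₁` with `C_K(x) = W₂` for `x ∈ W₁`, `x ≠ 1`

Group theory only: the pair `(W₁, W₂)` is self-normalising cyclic, the elements of `W₁ W₂` outside
`W₂` are conjugate only inside `W₁ W₂`, and the classes of `K` fixed by `x` are counted by `W₂`.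
-/

set_option autoImplicit false

namespace CfsgLib.CyclicTI

variable {L : Type*} [Group L] [Finite L]

/-- An element of order prime to `|K|`, all whose nontrivial powers have centraliser `W₂` in `K`,
has a fixed point in `W₂` on every stable subset of `K` of cardinality dividing `|K|`. -/
theorem exists_mem_centralizer {K W₂ : Subgroup L} {x : L} (hx1 : x ≠ 1)
    (hx : (orderOf x).Coprime (Nat.card K))
    (hC : ∀ y ∈ Subgroup.zpowers x, y ≠ 1 → K ⊓ Subgroup.centralizer ({y} : Set L) = W₂)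
    {S : Set L} (hSK : S ⊆ K) (hS : ∀ s, x * s * x⁻¹ ∈ S ↔ s ∈ S)
    (hcard : Nat.card S ∣ Nat.card K) : ∃ s ∈ S, s ∈ W₂ := by
  classical
  have ho : orderOf x ≠ 1 := fun h => hx1 (orderOf_eq_one_iff.mp h)
  obtain ⟨p, hp, hpo⟩ := Nat.exists_prime_and_dvd ho
  have : Fact p.Prime := ⟨hp⟩
  set y := x ^ (orderOf x / p) with hy
  have hyo : orderOf y = p := by
    rw [hy, orderOf_pow_of_dvd (Nat.div_pos (Nat.le_of_dvd (orderOf_pos x) hpo) hp.pos).ne'
      (Nat.div_dvd_of_dvd hpo), Nat.div_div_self hpo (orderOf_pos x).ne']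
  have hy1 : y ≠ 1 := fun h => hp.ne_one (by rw [← hyo, h, orderOf_one])
  have hSy : ∀ s, MulAut.conj y s ∈ S ↔ s ∈ S := by
    have key : ∀ n : ℕ, ∀ s, MulAut.conj (x ^ n) s ∈ S ↔ s ∈ S := by
      intro n
      induction n with
      | zero => simp
      | succ n ih =>
        intro s
        rw [pow_succ', map_mul, MulAut.mul_apply, MulAut.conj_apply, hS, ih]
    exact key _
  have : Fintype S := Fintype.ofFinite _
  let σ : Equiv.Perm S := Equiv.Perm.subtypePerm (MulAut.conj y).toEquiv fun s => hSy s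
  have hσ : ∀ (n : ℕ) (s : S), ((σ ^ n) s : L) = MulAut.conj (y ^ n) (s : L) := by
    intro n
    induction n with
    | zero => simp
    | succ n ih =>
      intro s
      rw [pow_succ', Equiv.Perm.mul_apply, pow_succ', map_mul, MulAut.mul_apply, ← ih s]
      rfl
  have hσp : σ ^ p ^ 1 = 1 := Equiv.ext fun s => Subtype.ext (by
    rw [hσ, pow_one, ← hyo, pow_orderOf_eq_one]
    simp)
  have hnd : ¬ p ∣ Fintype.card S := fun h => hp.ne_one (Nat.dvd_one.mp (hx ▸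
    Nat.dvd_gcd hpo (h.trans (Nat.card_eq_fintype_card (α := S) ▸ hcard))))
  obtain ⟨s, hs⟩ := Equiv.Perm.exists_fixed_point_of_prime hnd hσp
  have hfix : y * s * y⁻¹ = s := by
    have := congrArg Subtype.val hs
    have h1 := hσ 1 s
    rw [pow_one, pow_one] at h1
    rw [h1] at this
    exact this
  refine ⟨s, s.2, ?_⟩
  rw [← hC y (hy ▸ pow_mem (Subgroup.mem_zpowers x) _) hy1, Subgroup.mem_inf]
  refine ⟨hSK s.2, ?_⟩
  rw [Subgroup.mem_centralizer_singleton_iff]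
  rw [mul_inv_eq_iff_eq_mul] at hfix
  exact hfix.symm

omit [Finite L] in
/-- Membership form of the centraliser hypothesis. -/
theorem mem_W₂_iff {K W₂ : Subgroup L} {x : L}
    (hC : K ⊓ Subgroup.centralizer ({x} : Set L) = W₂) (s : L) :
    s ∈ W₂ ↔ s ∈ K ∧ s * x = x * s := by
  rw [← hC, Subgroup.mem_inf, Subgroup.mem_centralizer_singleton_iff]

/-- A class fixed by `x` meets `W₂`. -/
theorem exists_mem_of_fixed_class {K W₂ : Subgroup L} [K.Normal] {x : L} (hx1 : x ≠ 1)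
    (hx : (orderOf x).Coprime (Nat.card K))
    (hC : ∀ y ∈ Subgroup.zpowers x, y ≠ 1 → K ⊓ Subgroup.centralizer ({y} : Set L) = W₂)
    (C : ConjClasses K)
    (hfix : ConjClasses.map (MulEquiv.toMonoidHom ((MulAut.conjNormal x : MulAut K))) C = C) :
    ∃ b : K, (b : L) ∈ W₂ ∧ ConjClasses.mk b = C := by
  obtain ⟨a, rfl⟩ := ConjClasses.exists_rep C
  let S : Set L := Subtype.val '' MulAction.orbit (ConjAct K) a
  have hmem : ∀ s : L, s ∈ S ↔ ∃ k : K, (k : L) = s ∧ IsConj a k := by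
    intro s
    constructor
    · rintro ⟨k, hk, rfl⟩
      rw [ConjAct.mem_orbit_conjAct] at hk
      exact ⟨k, rfl, hk.symm⟩
    · rintro ⟨k, rfl, hk⟩
      exact ⟨k, ConjAct.mem_orbit_conjAct.mpr hk.symm, rfl⟩
  have hSK : S ⊆ K := by rintro _ ⟨k, -, rfl⟩; exact k.2
  set φ : MulAut K := MulAut.conjNormal x with hφ
  have hφa : IsConj a (φ a) := (ConjClasses.mk_eq_mk_iff_isConj.mp hfix).symm
  have hcoe : ∀ k : K, ((φ k : K) : L) = x * k * x⁻¹ := fun k => MulAut.conjNormal_apply x k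
  have hS : ∀ s, x * s * x⁻¹ ∈ S ↔ s ∈ S := by
    intro s
    rw [hmem, hmem]
    constructor
    · rintro ⟨k, hk, hak⟩
      have hsK : s ∈ K := by
        have h := Subgroup.Normal.conj_mem inferInstance _ k.2 x⁻¹
        rw [hk, inv_inv] at h
        simpa [mul_assoc] using h
      refine ⟨⟨s, hsK⟩, rfl, ?_⟩
      have e : φ ⟨s, hsK⟩ = k := Subtype.ext ((hcoe _).trans hk.symm)
      have h2 : IsConj (φ a) (φ ⟨s, hsK⟩) := e ▸ hφa.symm.trans hak
      have h3 := MonoidHom.map_isConj φ.symm.toMonoidHom h2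
      simpa using h3
    · rintro ⟨k, rfl, hak⟩
      exact ⟨φ k, hcoe k, hφa.trans (MonoidHom.map_isConj φ.toMonoidHom hak)⟩
  have hcard : Nat.card S ∣ Nat.card K := by
    rw [Nat.card_image_of_injective Subtype.val_injective,
      Nat.card_coe_set_eq, ← MulAction.index_stabilizer]
    exact Subgroup.index_dvd_card _
  obtain ⟨s, hs, hsW⟩ := exists_mem_centralizer hx1 hx hC hSK hS hcard
  obtain ⟨k, rfl, hk⟩ := (hmem s).mp hs
  exact ⟨k, hsW, ConjClasses.mk_eq_mk_iff_isConj.mpr hk.symm⟩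

theorem card_fixed_classes_le {K W₂ : Subgroup L} [K.Normal] {x : L} (hx1 : x ≠ 1)
    (hx : (orderOf x).Coprime (Nat.card K))
    (hC : ∀ y ∈ Subgroup.zpowers x, y ≠ 1 → K ⊓ Subgroup.centralizer ({y} : Set L) = W₂) :
    Nat.card {C : ConjClasses K //
      ConjClasses.map (MulEquiv.toMonoidHom ((MulAut.conjNormal x : MulAut K))) C = C} ≤
      Nat.card W₂ := by
  choose b hb hbC using fun C : {C : ConjClasses K //
      ConjClasses.map (MulEquiv.toMonoidHom ((MulAut.conjNormal x : MulAut K))) C = C} =>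
    exists_mem_of_fixed_class hx1 hx hC C.1 C.2
  refine Nat.card_le_card_of_injective (fun C => (⟨(b C : L), hb C⟩ : W₂)) fun C C' h => ?_
  have e : b C = b C' := Subtype.ext (congrArg (fun w : W₂ => (w : L)) h)
  exact Subtype.ext (by rw [← hbC C, ← hbC C', e])

theorem card_fixed_classes_eq {K W₂ : Subgroup L} [K.Normal] {x : L} (hx1 : x ≠ 1)
    (hx : (orderOf x).Coprime (Nat.card K)) (hW₂K : W₂ ≤ K)
    (hcomm : ∀ a ∈ W₂, ∀ b ∈ W₂, a * b = b * a)
    (hC : ∀ y ∈ Subgroup.zpowers x, y ≠ 1 → K ⊓ Subgroup.centralizer ({y} : Set L) = W₂) :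
    Nat.card {C : ConjClasses K //
      ConjClasses.map (MulEquiv.toMonoidHom ((MulAut.conjNormal x : MulAut K))) C = C} =
      Nat.card W₂ := by
  refine le_antisymm (card_fixed_classes_le hx1 hx hC) ?_
  have hxW : ∀ b ∈ W₂, b * x = x * b := fun b hb =>
    ((mem_W₂_iff (hC x (Subgroup.mem_zpowers x) hx1) b).mp hb).2
  have hfix : ∀ b : W₂, ConjClasses.map (MulEquiv.toMonoidHom ((MulAut.conjNormal x : MulAut K)))
      (ConjClasses.mk ⟨(b : L), hW₂K b.2⟩) = ConjClasses.mk ⟨(b : L), hW₂K b.2⟩ := fun b => by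
    show ConjClasses.mk _ = _
    congr 1
    refine Subtype.ext ?_
    show ((MulAut.conjNormal x : MulAut K) ⟨(b : L), hW₂K b.2⟩ : L) = b
    rw [MulAut.conjNormal_apply, ← hxW b b.2, mul_inv_cancel_right]
  have : Finite (ConjClasses K) := Finite.of_surjective _ ConjClasses.mk_surjective
  refine Nat.card_le_card_of_injective (fun b : W₂ => ⟨_, hfix b⟩) fun b b' h => ?_
  obtain ⟨k, hk⟩ := isConj_iff.mp (ConjClasses.mk_eq_mk_iff_isConj.mp (congrArg Subtype.val h))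
  have hk' : (k : L) * b * (k : L)⁻¹ = b' := congrArg Subtype.val hk
  let S : Set L := {s | s ∈ K ∧ s * b * s⁻¹ = b'}
  have hS : ∀ s, x * s * x⁻¹ ∈ S ↔ s ∈ S := by
    intro s
    have e : x * s * x⁻¹ * b * (x * s * x⁻¹)⁻¹ = x * (s * b * s⁻¹) * x⁻¹ := by
      have e1 : x⁻¹ * (b : L) * x = b := by rw [mul_assoc, hxW b b.2, inv_mul_cancel_left]
      calc x * s * x⁻¹ * b * (x * s * x⁻¹)⁻¹ = x * s * (x⁻¹ * b * x) * s⁻¹ * x⁻¹ := by group
        _ = x * s * b * s⁻¹ * x⁻¹ := by rw [e1]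
        _ = _ := by group
    have e2 : x * (b' : L) * x⁻¹ = b' := by rw [← hxW b' b'.2, mul_inv_cancel_right]
    simp only [S, Set.mem_ofPred_eq, e]
    constructor
    · rintro ⟨h1, h2⟩
      refine ⟨?_, ?_⟩
      · have h := Subgroup.Normal.conj_mem inferInstance _ h1 x⁻¹
        rw [inv_inv] at h
        simpa [mul_assoc] using h
      · exact mul_left_cancel (mul_right_cancel (h2.trans e2.symm))
    · rintro ⟨h1, h2⟩
      exact ⟨Subgroup.Normal.conj_mem inferInstance _ h1 x, by rw [h2, e2]⟩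
  have hcard : Nat.card S ∣ Nat.card K := by
    let Z := K ⊓ Subgroup.centralizer ({(b : L)} : Set L)
    have e : Nat.card S = Nat.card Z := by
      refine Nat.card_congr ⟨fun s => ⟨(k : L)⁻¹ * s, ?_⟩, fun z => ⟨k * z, ?_⟩, fun s => ?_,
        fun z => ?_⟩
      · obtain ⟨h1, h2⟩ := s.2
        refine Subgroup.mem_inf.mpr ⟨mul_mem (inv_mem k.2) h1, Subgroup.mem_centralizer_singleton_iff.mpr ?_⟩
        have h3 : (s : L) * b = b' * s := mul_inv_eq_iff_eq_mul.mp h2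
        rw [mul_assoc, h3, ← hk']
        group
      · obtain ⟨h1, h2⟩ := Subgroup.mem_inf.mp z.2
        refine ⟨mul_mem k.2 h1, ?_⟩
        have h3 : (z : L) * b = b * z := Subgroup.mem_centralizer_singleton_iff.mp h2
        calc (k : L) * z * b * ((k : L) * z)⁻¹ = (k : L) * ((z : L) * b) * (z : L)⁻¹ * (k : L)⁻¹ := by
              group
          _ = (k : L) * (b * z) * (z : L)⁻¹ * (k : L)⁻¹ := by rw [h3]
          _ = b' := by rw [← mul_assoc, mul_inv_cancel_right, hk']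
      · exact Subtype.ext (mul_inv_cancel_left _ _)
      · exact Subtype.ext (inv_mul_cancel_left _ _)
    rw [e]
    exact Subgroup.card_dvd_of_le inf_le_left
  obtain ⟨s, hs, hsW⟩ := exists_mem_centralizer hx1 hx hC (fun s hs => hs.1) hS hcard
  refine Subtype.ext ?_
  rw [← hs.2, hcomm s hsW b b.2, mul_inv_cancel_right]

variable {K W₁ W₂ : Subgroup L}

theorem coprime_card [K.Normal] (hKW₁ : K ⊓ W₁ = ⊥) (hKW₁' : K ⊔ W₁ = ⊤)
    (hHall : Nat.Coprime (Nat.card W₁) W₁.index) :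
    K.IsComplement' W₁ ∧ Nat.Coprime (Nat.card W₁) (Nat.card K) := by
  have h : K.IsComplement' W₁ := Subgroup.isComplement'_of_disjoint_and_mul_eq_univ
    (disjoint_iff.mpr hKW₁) (by rw [← Subgroup.normal_mul, hKW₁', Subgroup.coe_top])
  exact ⟨h, h.index_eq_card ▸ hHall⟩

variable (hKW₁ : K ⊓ W₁ = ⊥) (hKW₁' : K ⊔ W₁ = ⊤) (hW₁c : IsCyclic W₁)
  (hHall : Nat.Coprime (Nat.card W₁) W₁.index) (hW₂c : IsCyclic W₂) (hW₂K : W₂ ≤ K)
  (hC : ∀ x ∈ W₁, x ≠ 1 → K ⊓ Subgroup.centralizer ({x} : Set L) = W₂)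

include hC in
theorem commute_W₁_W₂ {a b : L} (ha : a ∈ W₁) (hb : b ∈ W₂) : a * b = b * a := by
  by_cases h : a = 1
  · simp [h]
  · exact ((mem_W₂_iff (hC a ha h) b).mp hb).2.symm

include hKW₁ hKW₁' hHall hW₂K in
theorem coprime_W₂ [K.Normal] : Nat.Coprime (Nat.card W₁) (Nat.card W₂) :=
  (coprime_card hKW₁ hKW₁' hHall).2.coprime_dvd_right (Subgroup.card_dvd_of_le hW₂K)

include hKW₁ hW₂K in
theorem inf_eq_bot : W₁ ⊓ W₂ = ⊥ :=
  eq_bot_iff.mpr fun _ hx => hKW₁.le ⟨hW₂K hx.2, hx.1⟩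

include hC in
theorem exists_decomp {w : L} (hw : w ∈ W₁ ⊔ W₂) : ∃ a ∈ W₁, ∃ b ∈ W₂, a * b = w := by
  have hle : W₁ ≤ Subgroup.normalizer (W₂ : Set L) := fun a ha => by
    rw [Subgroup.mem_set_normalizer_iff]
    intro h
    simp only [SetLike.mem_coe]
    constructor
    · intro hh; rwa [commute_W₁_W₂ hC ha hh, mul_inv_cancel_right]
    · intro hh
      have e := commute_W₁_W₂ hC (inv_mem ha) hh
      rwa [show h = a * h * a⁻¹ from ?_]
      rw [show a⁻¹ * (a * h * a⁻¹) = h * a⁻¹ by group] at e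
      exact mul_right_cancel (e.trans (by group))
  have h : w ∈ ((W₁ ⊔ W₂ : Subgroup L) : Set L) := hw
  rw [Subgroup.coe_mul_of_left_le_normalizer_right _ _ hle] at h
  obtain ⟨a, ha, b, hb, rfl⟩ := h
  exact ⟨a, ha, b, hb, rfl⟩

include hW₁c hW₂c hC in
theorem commute_sup {u v : L} (hu : u ∈ W₁ ⊔ W₂) (hv : v ∈ W₁ ⊔ W₂) : u * v = v * u := by
  obtain ⟨a, ha, b, hb, rfl⟩ := exists_decomp hC hu
  obtain ⟨a', ha', b', hb', rfl⟩ := exists_decomp hC hv
  have := hW₁c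
  have := hW₂c
  let _ := IsCyclic.commGroup (α := W₁)
  let _ := IsCyclic.commGroup (α := W₂)
  have c1 : a * a' = a' * a := congrArg Subtype.val (mul_comm (⟨a, ha⟩ : W₁) ⟨a', ha'⟩)
  have c2 : b * b' = b' * b := congrArg Subtype.val (mul_comm (⟨b, hb⟩ : W₂) ⟨b', hb'⟩)
  calc a * b * (a' * b') = a * (b * a') * b' := by group
    _ = a * (a' * b) * b' := by rw [commute_W₁_W₂ hC ha' hb]
    _ = (a * a') * (b * b') := by group
    _ = (a' * a) * (b' * b) := by rw [c1, c2]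
    _ = a' * (a * b') * b := by group
    _ = a' * (b' * a) * b := by rw [commute_W₁_W₂ hC ha hb']
    _ = _ := by group

include hKW₁ hKW₁' hW₁c hHall hW₂K hC in
/-- Elements of `W₁ W₂` outside `W₂` are conjugate only inside `W₁ W₂`. -/
theorem mem_of_conj_mem [K.Normal] {g w : L} (hw : w ∈ W₁ ⊔ W₂) (hw₂ : w ∉ W₂)
    (hg : g * w * g⁻¹ ∈ W₁ ⊔ W₂) : g ∈ W₁ ⊔ W₂ := by
  obtain ⟨a, ha, b, hb, rfl⟩ := exists_decomp hC hw
  obtain ⟨a', ha', b', hb', he⟩ := exists_decomp hC hg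
  obtain ⟨e, he1, he2⟩ := Nat.chineseRemainder (coprime_W₂ hKW₁ hKW₁' hHall hW₂K) 1 0
  have key : ∀ a ∈ W₁, ∀ b ∈ W₂, (a * b) ^ e = a := by
    intro a ha b hb
    have hcomm : Commute a b := commute_W₁_W₂ hC ha hb
    rw [hcomm.mul_pow]
    have h1 : a ^ e = a ^ 1 :=
      pow_eq_pow_iff_modEq.mpr (he1.of_dvd (Subgroup.orderOf_dvd_natCard W₁ ha))
    have h2 : b ^ e = b ^ 0 :=
      pow_eq_pow_iff_modEq.mpr (he2.of_dvd (Subgroup.orderOf_dvd_natCard W₂ hb))
    rw [h1, h2, pow_one, pow_zero, mul_one]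
  have ha1 : a ≠ 1 := fun h => hw₂ (by rwa [h, one_mul])
  have hga : g * a * g⁻¹ = a' := by
    rw [← key a ha b hb, ← conj_pow, ← he, key a' ha' b' hb']
  have hgtop : g ∈ ((K ⊔ W₁ : Subgroup L) : Set L) := by rw [hKW₁']; trivial
  rw [Subgroup.normal_mul] at hgtop
  obtain ⟨k, hk, c, hc, rfl⟩ := hgtop
  have := hW₁c
  let _ := IsCyclic.commGroup (α := W₁)
  have hca : c * a * c⁻¹ = a := by
    have h1 : c * a = a * c := congrArg Subtype.val (mul_comm (⟨c, hc⟩ : W₁) ⟨a, ha⟩)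
    rw [h1, mul_inv_cancel_right]
  have hka : k * a * k⁻¹ = a' := by
    rw [← hga]
    conv_lhs => rw [← hca]
    group
  have hbot : a' * a⁻¹ = 1 := by
    rw [← Subgroup.mem_bot, ← hKW₁]
    refine Subgroup.mem_inf.mpr ⟨?_, mul_mem ha' (inv_mem ha)⟩
    rw [← hka, show k * a * k⁻¹ * a⁻¹ = k * (a * k⁻¹ * a⁻¹) by group]
    exact mul_mem hk (Subgroup.Normal.conj_mem inferInstance _ (inv_mem hk) a)
  have hkW : k ∈ W₂ := (mem_W₂_iff (hC a ha ha1) k).mpr ⟨hk, by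
    rw [← mul_inv_eq_iff_eq_mul, hka]
    exact mul_inv_eq_one.mp hbot⟩
  exact mul_mem (Subgroup.mem_sup_right hkW) (Subgroup.mem_sup_left hc)

include hKW₁ hKW₁' hW₁c hHall hW₂c hW₂K hC in
theorem isCyclic_sup [K.Normal] : IsCyclic ↥(W₁ ⊔ W₂) := by
  obtain ⟨⟨a, ha⟩, hag⟩ := hW₁c.exists_generator
  obtain ⟨⟨b, hb⟩, hbg⟩ := hW₂c.exists_generator
  have hcomm : Commute a b := commute_W₁_W₂ hC ha hb
  have hcop := coprime_W₂ hKW₁ hKW₁' hHall hW₂K
  have hab : a * b ∈ W₁ ⊔ W₂ := mul_mem (Subgroup.mem_sup_left ha) (Subgroup.mem_sup_right hb)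
  rw [Subgroup.isCyclic_iff_exists_zpowers_eq_top]
  refine ⟨a * b, le_antisymm (Subgroup.zpowers_le.mpr hab) ?_⟩
  obtain ⟨e, he1, he2⟩ := Nat.chineseRemainder hcop 1 0
  obtain ⟨e', he1', he2'⟩ := Nat.chineseRemainder hcop 0 1
  have hA : ∀ n, a ^ n = a ^ (n % Nat.card W₁) := fun n => pow_eq_pow_iff_modEq.mpr
    ((Nat.mod_modEq n _).symm.of_dvd (Subgroup.orderOf_dvd_natCard W₁ ha))
  have hA' : a ∈ Subgroup.zpowers (a * b) := by
    refine ⟨(e : ℤ), ?_⟩
    show (a * b) ^ (e : ℤ) = a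
    rw [zpow_natCast, hcomm.mul_pow,
      pow_eq_pow_iff_modEq.mpr (he1.of_dvd (Subgroup.orderOf_dvd_natCard W₁ ha)), pow_one,
      pow_eq_pow_iff_modEq.mpr (he2.of_dvd (Subgroup.orderOf_dvd_natCard W₂ hb)), pow_zero, mul_one]
  have hB' : b ∈ Subgroup.zpowers (a * b) := by
    refine ⟨(e' : ℤ), ?_⟩
    show (a * b) ^ (e' : ℤ) = b
    rw [zpow_natCast, hcomm.mul_pow,
      pow_eq_pow_iff_modEq.mpr (he1'.of_dvd (Subgroup.orderOf_dvd_natCard W₁ ha)), pow_zero,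
      pow_eq_pow_iff_modEq.mpr (he2'.of_dvd (Subgroup.orderOf_dvd_natCard W₂ hb)), pow_one, one_mul]
  refine sup_le (fun x hx => ?_) (fun x hx => ?_)
  · obtain ⟨n, hn⟩ := hag ⟨x, hx⟩
    have : a ^ n = x := congrArg Subtype.val hn
    exact this ▸ zpow_mem hA' n
  · obtain ⟨n, hn⟩ := hbg ⟨x, hx⟩
    have : b ^ n = x := congrArg Subtype.val hn
    exact this ▸ zpow_mem hB' n

include hKW₁ hKW₁' hW₁c hHall hW₂c hW₂K hC in
theorem isSelfNormalizingCyclic_of_semidirect [K.Normal] (hW₁ : W₁ ≠ ⊥) (hW₂ : W₂ ≠ ⊥) :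
    Cfsg.IsSelfNormalizingCyclic W₁ W₂ := by
  refine ⟨hW₁, hW₂, inf_eq_bot hKW₁ hW₂K, fun a ha b hb => commute_W₁_W₂ hC ha hb,
    isCyclic_sup hKW₁ hKW₁' hW₁c hHall hW₂c hW₂K hC, fun X hX hXne => ?_⟩
  refine le_antisymm (fun g hg => ?_) (fun g hg => ?_)
  · obtain ⟨x, hx⟩ := hXne
    have hgx := (Subgroup.mem_set_normalizer_iff.mp hg x).mp hx
    exact mem_of_conj_mem hKW₁ hKW₁' hW₁c hHall hW₂K hC (hX hx).1
      (fun h => (hX hx).2 (Or.inr h)) (hX hgx).1
  · rw [Subgroup.mem_set_normalizer_iff]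
    intro h
    constructor
    · intro hh
      rwa [commute_sup hW₁c hW₂c hC hg (hX hh).1, mul_inv_cancel_right]
    · intro hh
      have e := commute_sup hW₁c hW₂c hC (inv_mem hg) (hX hh).1
      have : h = g * h * g⁻¹ := by
        have e' : g⁻¹ * (g * h * g⁻¹) * g = g * h * g⁻¹ := by rw [e, inv_mul_cancel_right]
        simpa [mul_assoc] using e'
      rwa [this]

end CfsgLib.CyclicTI
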