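import Cfsg.Agent.Lib.Char.CyclicTI.Semidirect
import Cfsg.Agent.Lib.Char.CyclicTI.Basic
import Cfsg.Agent.Lib.Char.Exceptional.Coherence
import Cfsg.Agent.Lib.Char.Virtual

/-!
# The characters `μ` attached to a semidirect configuration

For linear characters of `W = W₁ W₂` agreeing on `W₂`, induction of their differences to `L` is
given by a sign and a family of irreducible characters.
-/

set_option autoImplicit false

namespace CfsgLib.CyclicTI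

open CfsgLib.Char
open scoped ComplexConjugate

variable {L : Type*} [Group L] [Fintype L] {W₁ W₂ : Subgroup L}

/-- Restriction of a character of `W₁ W₂` to `W₂`. -/
def res₂ (ω : ↥(W₁ ⊔ W₂) →* ℂˣ) : W₂ →* ℂˣ :=
  ω.comp (Subgroup.inclusion le_sup_right)

/-- A linear character as a function. -/
def linFun (ω : ↥(W₁ ⊔ W₂) →* ℂˣ) : ↥(W₁ ⊔ W₂) → ℂ := fun w => (ω w : ℂ)

omit [Fintype L] in
theorem linFun_injective : Function.Injective (linFun (W₁ := W₁) (W₂ := W₂)) :=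
  fun _ _ h => MonoidHom.ext fun w => Units.ext (congrFun h w)

omit [Fintype L] in
theorem res₂_eq_iff (ω ω' : ↥(W₁ ⊔ W₂) →* ℂˣ) :
    res₂ ω = res₂ ω' ↔ ∀ w : ↥(W₁ ⊔ W₂), (w : L) ∈ W₂ → ω w = ω' w :=
  ⟨fun h w hw => DFunLike.congr_fun h ⟨(w : L), hw⟩,
    fun h => MonoidHom.ext fun b => h (Subgroup.inclusion le_sup_right b) b.2⟩

omit [Fintype L] in
/-- On `W₂` a combination of characters with restriction `κ` is a multiple of `κ`. -/
theorem zspan_apply_W₂ (κ : W₂ →* ℂˣ) {f : ↥(W₁ ⊔ W₂) → ℂ}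
    (hf : f ∈ Cfsg.zspan {f | ∃ ω, res₂ ω = κ ∧ linFun (W₁ := W₁) ω = f})
    (w : ↥(W₁ ⊔ W₂)) (hw : (w : L) ∈ W₂) : f w = f 1 * (κ ⟨(w : L), hw⟩ : ℂ) := by
  induction hf using Submodule.span_induction with
  | mem f h =>
    obtain ⟨ω, rfl, rfl⟩ := h
    simp only [linFun, map_one, Units.val_one, one_mul]
    rfl
  | zero => simp
  | add f g _ _ h1 h2 => simp only [Pi.add_apply, h1, h2, add_mul]
  | smul n f _ h => simp only [Pi.smul_apply, h, zsmul_eq_mul, mul_assoc]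

theorem exists_mu (hW : Cfsg.IsSelfNormalizingCyclic W₁ W₂)
    (hTI : ∀ g w, w ∈ W₁ ⊔ W₂ → w ∉ W₂ → g * w * g⁻¹ ∈ W₁ ⊔ W₂ → g ∈ W₁ ⊔ W₂) :
    ∃ (μ : (↥(W₁ ⊔ W₂) →* ℂˣ) → (L → ℂ)) (δ : (↥(W₁ ⊔ W₂) →* ℂˣ) → ℂ),
      Function.Injective μ ∧ (∀ ω, Cfsg.IsIrrCharacter L (μ ω)) ∧ (∀ ω, δ ω = 1 ∨ δ ω = -1) ∧
      (∀ ω ω' : ↥(W₁ ⊔ W₂) →* ℂˣ, (∀ w : ↥(W₁ ⊔ W₂), (w : L) ∈ W₂ → ω w = ω' w) →
        δ ω = δ ω' ∧ Cfsg.indFun (W₁ ⊔ W₂) (fun w => (ω w : ℂ) - (ω' w : ℂ)) =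
          δ ω • (μ ω - μ ω')) ∧
      (∀ ω, ∀ w : ↥(W₁ ⊔ W₂), (w : L) ∉ W₂ → μ ω w = δ ω * (ω w : ℂ)) ∧
      (∀ θ : L → ℂ, Cfsg.IsIrrCharacter L θ → (∀ ω, θ ≠ μ ω) →
        ∀ w : ↥(W₁ ⊔ W₂), (w : L) ∉ W₂ → θ w = 0) ∧
      (∀ ω, ∃ n : ℤ, μ ω 1 - δ ω = n * (Nat.card W₁ : ℂ)) := by
  classical
  have := Fintype.ofFinite ↥(W₁ ⊔ W₂)
  have hWc := W_comm hW
  have hA1 : ∀ a b : W₁, a * b = b * a := fun a b => Subtype.ext (congrArg Subtype.val
    (hWc ⟨a, Subgroup.mem_sup_left a.2⟩ ⟨b, Subgroup.mem_sup_left b.2⟩) :)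
  have hS : ∀ g : L, g ∉ W₁ ⊔ W₂ → ∀ s ∈ ((W₁ ⊔ W₂ : Subgroup L) : Set L) \ ↑W₂,
      g * s * g⁻¹ ∉ ((W₁ ⊔ W₂ : Subgroup L) : Set L) \ ↑W₂ :=
    fun g hg s hs h => hg (hTI g s hs.1 hs.2 h.1)
  have hcl : ∀ f : ↥(W₁ ⊔ W₂) → ℂ, Cfsg.IsClassFunction ↥(W₁ ⊔ W₂) f := fun f a h => by
    rw [hWc h a, mul_inv_cancel_right]
  -- a character of `W₁` nontrivial at a given element
  have hl0 : ∀ a : W₁, a ≠ 1 → ∃ l : W₁ →* ℂˣ, l a ≠ 1 := by
    intro a ha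
    by_contra hcon
    push Not at hcon
    have := finite_hom W₁
    have := Fintype.ofFinite (W₁ →* ℂˣ)
    have h := sum_hom_apply hA1 a 1
    rw [if_neg ha] at h
    simp only [hcon, map_one, Units.val_one, map_one, mul_one, Finset.sum_const, Finset.card_univ,
      nsmul_eq_mul] at h
    exact Nat.cast_ne_zero.mpr Fintype.card_ne_zero h
  have hiso : ∀ ω₁ ω₂ ω₃ ω₄ : ↥(W₁ ⊔ W₂) →* ℂˣ, res₂ ω₁ = res₂ ω₂ → res₂ ω₃ = res₂ ω₄ →
      Cfsg.classInner (Cfsg.indFun (W₁ ⊔ W₂) (linFun ω₁ - linFun ω₂))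
        (Cfsg.indFun (W₁ ⊔ W₂) (linFun ω₃ - linFun ω₄)) =
      Cfsg.classInner (linFun ω₁ - linFun ω₂) (linFun ω₃ - linFun ω₄) := by
    intro ω₁ ω₂ ω₃ ω₄ h h'
    have hoff : ∀ a b : ↥(W₁ ⊔ W₂) →* ℂˣ, res₂ a = res₂ b → ∀ w : ↥(W₁ ⊔ W₂),
        (w : L) ∉ ((W₁ ⊔ W₂ : Subgroup L) : Set L) \ ↑W₂ → (linFun a - linFun b) w = 0 := by
      intro a b hab w hw
      have hw2 : (w : L) ∈ W₂ := by
        by_contra hh; exact hw ⟨w.2, hh⟩
      simp [linFun, (res₂_eq_iff a b).mp hab w hw2]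
    exact Exceptional.ti_indFun_inner hS (hoff _ _ h) (hcl _) (hoff _ _ h')
  -- one fibre
  have hfam : ∀ κ : W₂ →* ℂˣ, ∃ (ε : ℂ) (f : (↥(W₁ ⊔ W₂) → ℂ) → (L → ℂ)), (ε = 1 ∨ ε = -1) ∧
      (∀ χ ∈ {f | ∃ ω, res₂ ω = κ ∧ linFun (W₁ := W₁) ω = f}, Cfsg.IsIrrCharacter L (f χ)) ∧
      (∀ χ ∈ {f | ∃ ω, res₂ ω = κ ∧ linFun (W₁ := W₁) ω = f},
        ∀ ψ ∈ {f | ∃ ω, res₂ ω = κ ∧ linFun (W₁ := W₁) ω = f}, f χ = f ψ → χ = ψ) ∧
      ∀ χ ∈ {f | ∃ ω, res₂ ω = κ ∧ linFun (W₁ := W₁) ω = f},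
        ∀ ψ ∈ {f | ∃ ω, res₂ ω = κ ∧ linFun (W₁ := W₁) ω = f},
          Cfsg.indFun (W₁ ⊔ W₂) (χ - ψ) = ε • (f χ - f ψ) := by
    intro κ
    refine Exceptional.const_degree_family ?_ ?_ ?_ ?_ ?_
    · rintro _ ⟨ω, -, rfl⟩
      exact isIrrCharacter_linear ω
    · rintro _ ⟨ω, -, rfl⟩ _ ⟨ω', -, rfl⟩
      simp [linFun]
    · have hr : res₂ (inr hW κ) = κ := by
        refine MonoidHom.ext fun b => ?_
        show κ (proj₂ hW (Subgroup.inclusion le_sup_right b)) = κ b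
        have he : prodEquiv hW (1, b) = Subgroup.inclusion le_sup_right b :=
          Subtype.ext (by simp [coe_prodEquiv])
        rw [← he, (proj_prodEquiv hW (1, b)).2]
      obtain ⟨a, ha⟩ := (Subgroup.ne_bot_iff_exists_ne_one.mp hW.1)
      obtain ⟨l, hl⟩ := hl0 a (fun h => ha (by rw [h]))
      refine ⟨_, ⟨inr hW κ, hr, rfl⟩, _, ⟨inl hW l * inr hW κ, ?_, rfl⟩, fun h => ?_⟩
      · refine MonoidHom.ext fun b => ?_
        show inl hW l (Subgroup.inclusion le_sup_right b) * inr hW κ _ = κ b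
        rw [inl_apply_W₂ hW l _ b.2, one_mul]
        exact DFunLike.congr_fun hr b
      · have e := linFun_injective h
        have h2 : inl hW 1 * inr hW κ = inl hW l * inr hW κ := by rwa [inl_one, hom_one_mul]
        exact hl (by rw [← (mul_inj hW h2).1]; rfl)
    · refine ⟨fun α _ β _ => indFun_add _ _ _, fun α _ n => ?_, fun α hα β hβ => ?_, fun α hα => ?_⟩
      · rw [← Int.cast_smul_eq_zsmul ℂ, indFun_smul, Int.cast_smul_eq_zsmul]
      · refine Exceptional.ti_indFun_inner hS ?_ (hcl _) ?_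
        · intro w hw
          have hw2 : (w : L) ∈ W₂ := by by_contra hh; exact hw ⟨w.2, hh⟩
          rw [zspan_apply_W₂ κ hα.1 w hw2, hα.2 1 (by simp), zero_mul]
        · intro w hw
          have hw2 : (w : L) ∈ W₂ := by by_contra hh; exact hw ⟨w.2, hh⟩
          rw [zspan_apply_W₂ κ hβ.1 w hw2, hβ.2 1 (by simp), zero_mul]
      · refine CfsgLib.Char.IsGen.indFun ?_
        have hgen : α ∈ Submodule.span ℤ {f | ∃ ω, res₂ ω = κ ∧ linFun (W₁ := W₁) ω = f} := hα.1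
        clear hα
        induction hgen using Submodule.span_induction with
        | mem f h =>
          obtain ⟨ω, -, rfl⟩ := h
          exact CfsgLib.Char.IsGen.of_irr (isIrrCharacter_linear ω)
        | zero => exact CfsgLib.Char.IsGen.zero
        | add f g _ _ h1 h2 => exact CfsgLib.Char.IsGen.add h1 h2
        | smul n f _ h =>
          rw [← Int.cast_smul_eq_zsmul ℂ]
          exact CfsgLib.Char.IsGen.intCast_smul n h
    · intro α hα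
      rw [indFun_apply_one, hα.2 1 (by simp), mul_zero]
  choose ε f hε hf hinj hdiff using hfam
  set μ : (↥(W₁ ⊔ W₂) →* ℂˣ) → L → ℂ := fun ω => f (res₂ ω) (linFun ω) with hμ
  set δ : (↥(W₁ ⊔ W₂) →* ℂˣ) → ℂ := fun ω => ε (res₂ ω) with hδ
  have hmem : ∀ ω : ↥(W₁ ⊔ W₂) →* ℂˣ,
      linFun ω ∈ {f | ∃ ω', res₂ ω' = res₂ ω ∧ linFun (W₁ := W₁) ω' = f} :=
    fun ω => ⟨ω, rfl, rfl⟩
  have hirr : ∀ ω, Cfsg.IsIrrCharacter L (μ ω) := fun ω => hf _ _ (hmem ω)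
  have hsame : ∀ ω ω', res₂ ω = res₂ ω' → μ ω = μ ω' → ω = ω' := by
    intro ω ω' h e
    refine linFun_injective (hinj (res₂ ω) _ (hmem ω) _ ⟨ω', h.symm, rfl⟩ ?_)
    simpa only [hμ, ← h] using e
  have heq : ∀ ω ω', res₂ ω = res₂ ω' →
      Cfsg.indFun (W₁ ⊔ W₂) (linFun ω - linFun ω') = δ ω • (μ ω - μ ω') := by
    intro ω ω' h
    simp only [hδ, hμ, ← h]
    exact hdiff _ _ (hmem ω) _ ⟨ω', h.symm, rfl⟩
  have hother : ∀ ω : ↥(W₁ ⊔ W₂) →* ℂˣ, ∃ ω', res₂ ω' = res₂ ω ∧ ω' ≠ ω := by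
    intro ω
    obtain ⟨a, ha⟩ := (Subgroup.ne_bot_iff_exists_ne_one.mp hW.1)
    obtain ⟨l, hl⟩ := hl0 a (fun h => ha (by rw [h]))
    obtain ⟨l', k, rfl⟩ := exists_eq_mul hW ω
    refine ⟨inl hW (l * l') * inr hW k, MonoidHom.ext fun b => ?_, fun h => hl ?_⟩
    · show inl hW (l * l') (Subgroup.inclusion le_sup_right b) * inr hW k _ =
        inl hW l' (Subgroup.inclusion le_sup_right b) * inr hW k _
      rw [inl_apply_W₂ hW _ _ b.2, inl_apply_W₂ hW _ _ b.2]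
    · have h1 := DFunLike.congr_fun (mul_inj hW h).1 a
      rwa [MonoidHom.mul_apply, mul_eq_right] at h1
  have hlin : ∀ x y : ↥(W₁ ⊔ W₂) →* ℂˣ, res₂ x ≠ res₂ y →
      Cfsg.classInner (linFun x) (linFun y) = 0 := fun x y hxy => by
    unfold linFun
    rw [inner_linear, if_neg fun e => hxy (by rw [e])]
  have hμinj : ∀ ω ω', μ ω = μ ω' → ω = ω' := by
    intro ω ω' e
    by_cases h : res₂ ω = res₂ ω'
    · exact hsame ω ω' h e
    exfalso
    obtain ⟨a, ha, hne⟩ := hother ω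
    obtain ⟨b, hb, hne'⟩ := hother ω'
    have hi := hiso ω a ω' b ha.symm hb.symm
  
    rw [heq ω a ha.symm, heq ω' b hb.symm, classInner_smul_left, classInner_smul_right,
      classInner_sub_left, classInner_sub_right, classInner_sub_right,
      classInner_sub_left, classInner_sub_right, classInner_sub_right,
      hlin ω ω' h, hlin ω b (by rwa [hb]), hlin a ω' (by rwa [ha]), hlin a b (by rwa [ha, hb]),
      Exceptional.classInner_of_irr (hirr ω) (hirr ω'), if_pos e,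
      Exceptional.classInner_of_irr (hirr ω) (hirr b),
      if_neg (fun e' => hne' (hsame b ω' hb (e'.symm.trans e))),
      Exceptional.classInner_of_irr (hirr a) (hirr ω'),
      if_neg (fun e' => hne (hsame a ω ha (e'.trans e.symm))),
      Exceptional.classInner_of_irr (hirr a) (hirr b)] at hi
    have e1 : δ ω ≠ 0 := by rcases hε (res₂ ω) with h | h <;> simp [hδ, h]
    have e2 : conj (δ ω') ≠ 0 := by rcases hε (res₂ ω') with h | h <;> simp [hδ, h]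
    simp only [sub_zero, zero_sub, sub_neg_eq_add, mul_eq_zero, e1, e2, false_or] at hi
    split_ifs at hi <;> norm_num at hi
  refine ⟨μ, δ, fun ω ω' e => hμinj ω ω' e, hirr, fun ω => hε _, fun ω ω' h => ?_, ?_⟩
  · have h' := (res₂_eq_iff ω ω').mpr h
    exact ⟨congrArg ε h', heq ω ω' h'⟩
  have hval : ∀ θ : L → ℂ, Cfsg.IsIrrCharacter L θ → ∀ w : ↥(W₁ ⊔ W₂), (w : L) ∉ W₂ →
      θ w = ∑' ω, if μ ω = θ then δ ω * (ω w : ℂ) else 0 := by
    intro θ hθ w hw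
    have := finite_hom ↥(W₁ ⊔ W₂)
    have := Fintype.ofFinite (↥(W₁ ⊔ W₂) →* ℂˣ)
    have := Fintype.ofFinite (Cfsg.IrrCharacter ↥(W₁ ⊔ W₂))
    rw [tsum_fintype]
    set c : (↥(W₁ ⊔ W₂) →* ℂˣ) → ℂ := fun ω =>
      Cfsg.classInner (fun v : ↥(W₁ ⊔ W₂) => θ v) (linFun ω) with hc
    set e : (↥(W₁ ⊔ W₂) →* ℂˣ) → ℂ := fun ω => c ω - if μ ω = θ then δ ω else 0 with he
    have hexp : θ w = ∑ ω, c ω * (ω w : ℂ) := by
      have h1 := congrFun (classFunction_eq_sum (hcl fun v : ↥(W₁ ⊔ W₂) => θ v)) w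
      refine h1.trans ?_
      rw [Finset.sum_apply, ← (linear_bijective hWc).sum_comp
        fun χ : Cfsg.IrrCharacter ↥(W₁ ⊔ W₂) => (Cfsg.classInner (fun v : ↥(W₁ ⊔ W₂) => θ v)
          (χ : ↥(W₁ ⊔ W₂) → ℂ) • (χ : ↥(W₁ ⊔ W₂) → ℂ)) w]
      exact Finset.sum_congr rfl fun ω _ => rfl
    have hconst : ∀ ω ω', res₂ ω = res₂ ω' → e ω = e ω' := by
      intro ω ω' h
      have h1 := congrArg (fun F => conj (Cfsg.classInner F θ)) (heq ω ω' h)
      simp only [frobenius_reciprocity _ _ (IsIrr.isClassFunction hθ), classInner_smul_left,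
        classInner_sub_left, Exceptional.classInner_of_irr (hirr _) hθ, map_sub, map_mul,
        classInner_conj_symm] at h1
      have hd : conj (δ ω) = δ ω := by rcases hε (res₂ ω) with h | h <;> simp [hδ, h]
      have hd' : δ ω' = δ ω := congrArg ε h.symm
      simp only [hd, apply_ite (fun z : ℂ => conj z), map_one, map_zero] at h1
      simp only [he, hc, hd']
      split_ifs at h1 ⊢ <;> linear_combination h1
    have hzero : ∑ ω, e ω * (ω w : ℂ) = 0 := by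
      have ha : proj₁ hW w ≠ 1 := fun h => hw ((proj₁_eq_one_iff hW w).mp h)
      obtain ⟨l, hl⟩ := hl0 _ ha
      let T : Equiv.Perm (↥(W₁ ⊔ W₂) →* ℂˣ) :=
        ⟨fun ω => inl hW l * ω, fun ω => inl hW l⁻¹ * ω, fun ω => by ext v; simp [inl],
          fun ω => by ext v; simp [inl]⟩
      have hT : ∀ ω, e (T ω) = e ω := fun ω => hconst _ _ (MonoidHom.ext fun b => by
        show inl hW l (Subgroup.inclusion le_sup_right b) * ω _ = ω _
        rw [inl_apply_W₂ hW l _ b.2, one_mul])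
      have h1 := Equiv.sum_comp T fun ω => e ω * (ω w : ℂ)
      have h2 : ∀ ω, e (T ω) * ((T ω) w : ℂ) = (inl hW l w : ℂ) * (e ω * (ω w : ℂ)) := fun ω => by
        rw [hT]
        simp only [T, Equiv.coe_fn_mk, MonoidHom.mul_apply, Units.val_mul]
        ring
      simp only [h2, ← Finset.mul_sum] at h1
      refine (mul_left_eq_self₀.mp h1).resolve_left ?_
      intro h3
      exact hl (Units.ext h3)
    rw [hexp, ← sub_eq_zero, ← Finset.sum_sub_distrib]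
    refine Eq.trans (Finset.sum_congr rfl fun ω _ => ?_) hzero
    simp only [he]
    split_ifs <;> ring
  have hpos : ∀ ω, ∀ w : ↥(W₁ ⊔ W₂), (w : L) ∉ W₂ → μ ω w = δ ω * (ω w : ℂ) := by
    intro ω w hw
    rw [hval _ (hirr ω) w hw, tsum_eq_single ω fun ω' hne => if_neg fun e => hne (hμinj ω' ω e),
      if_pos rfl]
  refine ⟨hpos, fun θ hθ hne w hw => ?_, fun ω => ?_⟩
  · rw [hval θ hθ w hw]
    simp [fun ω => if_neg (c := μ ω = θ) (fun e => hne ω e.symm) (t := δ ω * (ω w : ℂ)) (e := 0)]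
  · have := Fintype.ofFinite W₁
    let ω₁ : W₁ →* ℂˣ := ω.comp (Subgroup.inclusion le_sup_left)
    obtain ⟨z, hz⟩ := CfsgLib.Char.IsGen.exists_classInner_eq_intCast
      (CfsgLib.Char.IsGen.restrict W₁ (CfsgLib.Char.IsGen.of_irr (hirr ω)))
      (CfsgLib.Char.IsGen.of_irr (isIrrCharacter_linear ω₁))
    obtain ⟨d, hd⟩ : ∃ d : ℤ, δ ω = d := by
      rcases hε (res₂ ω) with h | h
      · exact ⟨1, by simp [hδ, h]⟩
      · exact ⟨-1, by simp [hδ, h]⟩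
    refine ⟨z - d, ?_⟩
    have hterm : ∀ a ∈ (Finset.univ : Finset W₁).erase 1,
        μ ω (a : L) * conj (ω₁ a : ℂ) = δ ω := by
      intro a ha
      have ha1 : a ≠ 1 := (Finset.mem_erase.mp ha).1
      have hnot : (a : L) ∉ W₂ := fun h => ha1 (Subtype.ext (hW.2.2.1.le ⟨a.2, h⟩))
      rw [hpos ω ⟨a, Subgroup.mem_sup_left a.2⟩ hnot, mul_assoc]
      show δ ω * ((ω₁ a : ℂ) * conj (ω₁ a : ℂ)) = δ ω
      rw [← CfsgLib.Char.IsGen.map_inv (CfsgLib.Char.IsGen.of_irr (isIrrCharacter_linear ω₁)) a,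
        ← Units.val_mul, ← map_mul, mul_inv_cancel, map_one, Units.val_one, mul_one]
    simp only [Cfsg.classInner] at hz
    rw [← Finset.add_sum_erase _ _ (Finset.mem_univ (1 : W₁)), Finset.sum_congr rfl hterm,
      Finset.sum_const, Finset.card_erase_of_mem (Finset.mem_univ _), Finset.card_univ,
      nsmul_eq_mul, OneMemClass.coe_one, map_one ω₁, Units.val_one, map_one, mul_one,
      ← Nat.card_eq_fintype_card, Nat.cast_sub Nat.card_pos, Nat.cast_one,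
      inv_mul_eq_iff_eq_mul₀ (Nat.cast_ne_zero.mpr Nat.card_pos.ne')] at hz
    push_cast
    linear_combination hz - (Nat.card W₁ : ℂ) * hd

end CfsgLib.CyclicTI
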