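import Cfsg.Agent.Lib.Char.CyclicTI.Semidirect
import Cfsg.Agent.Lib.Char.CyclicTI.Basic
import Cfsg.Agent.Lib.Char.BrauerPerm
import Cfsg.Agent.Lib.Char.Gallagher
import Cfsg.Agent.Lib.Char.CliffordCorr
import Cfsg.Agent.Lib.Char.Central

/-!
# Characters of `K` in a semidirect configuration

A character of `K` is fixed by all of `W₁` or by none of its nontrivial elements; in the first case
it induces to `|W₁|` distinct irreducible characters, in the second to one.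
-/

set_option autoImplicit false

namespace CfsgLib.CyclicTI

open CfsgLib.Char
open CfsgLib.Clifford (conjFn inertia mem_inertia)
open scoped ComplexConjugate

variable {L : Type*} [Group L] [Fintype L] {K W₁ W₂ : Subgroup L} [hK : K.Normal]
  (hKW₁ : K ⊓ W₁ = ⊥) (hKW₁' : K ⊔ W₁ = ⊤) (hW₁c : IsCyclic W₁)
  (hHall : Nat.Coprime (Nat.card W₁) W₁.index) (hW₂c : IsCyclic W₂) (hW₂K : W₂ ≤ K)
  (hC : ∀ x ∈ W₁, x ≠ 1 → K ⊓ Subgroup.centralizer ({x} : Set L) = W₂)

include hKW₁ hKW₁' hHall hW₂c hW₂K hC in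
theorem card_fixed_irr {x : L} (hx : x ∈ W₁) (hx1 : x ≠ 1) :
    Nat.card {θ : Cfsg.IrrCharacter K // conjFn hK (θ : K → ℂ) x = (θ : K → ℂ)} = Nat.card W₂ := by
  have hcop := (coprime_card hKW₁ hKW₁' hHall).2.coprime_dvd_left
    (Subgroup.orderOf_dvd_natCard W₁ hx)
  have := hW₂c
  let _ := IsCyclic.commGroup (α := W₂)
  rw [← card_fixed_classes_eq hx1 hcop hW₂K
    (fun a ha b hb => congrArg Subtype.val (mul_comm (⟨a, ha⟩ : W₂) ⟨b, hb⟩))
    (fun y hy hy1 => hC y (Subgroup.zpowers_le.mpr hx hy) hy1),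
    card_fixed_classes_eq_card_fixed_irr]
  refine Nat.card_congr (Equiv.subtypeEquivRight fun θ => ?_)
  have e : (θ : K → ℂ) ∘ ((MulAut.conjNormal x : MulAut K) : K → K) = conjFn hK (θ : K → ℂ) x :=
    funext fun k => congrArg (θ : K → ℂ) (Subtype.ext (MulAut.conjNormal_apply x k))
  rw [← e]

include hKW₁ hKW₁' hW₁c hHall hW₂c hW₂K hC in
theorem fixed_all_of_fixed (θ : Cfsg.IrrCharacter K) {x : L} (hx : x ∈ W₁) (hx1 : x ≠ 1)
    (hfix : conjFn hK (θ : K → ℂ) x = (θ : K → ℂ)) :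
    ∀ y ∈ W₁, conjFn hK (θ : K → ℂ) y = (θ : K → ℂ) := by
  classical
  have := Fintype.ofFinite (Cfsg.IrrCharacter K)
  obtain ⟨⟨g, hg⟩, hgen⟩ := hW₁c.exists_generator
  have hle : W₁ ≤ Subgroup.zpowers g := fun y hy => by
    obtain ⟨n, hn⟩ := hgen ⟨y, hy⟩
    exact ⟨n, congrArg Subtype.val hn⟩
  have hg1 : g ≠ 1 := fun h => hx1 (by
    have := hle hx
    rw [h, Subgroup.zpowers_one_eq_bot, Subgroup.mem_bot] at this
    exact this)
  have hpow : ∀ φ : Cfsg.IrrCharacter K, conjFn hK (φ : K → ℂ) g = (φ : K → ℂ) →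
      ∀ y ∈ W₁, conjFn hK (φ : K → ℂ) y = (φ : K → ℂ) := fun φ h y hy =>
    mem_inertia.mp ((Subgroup.zpowers_le.mpr (mem_inertia.mpr h)) (hle hy))
  refine hpow θ ?_
  have hsub : (Finset.univ.filter fun φ : Cfsg.IrrCharacter K =>
      conjFn hK (φ : K → ℂ) g = (φ : K → ℂ)) ⊆
      Finset.univ.filter fun φ : Cfsg.IrrCharacter K => conjFn hK (φ : K → ℂ) x = (φ : K → ℂ) := by
    intro φ hφ
    rw [Finset.mem_filter] at hφ ⊢
    exact ⟨hφ.1, hpow φ hφ.2 x hx⟩
  have heq := Finset.eq_of_subset_of_card_le hsub (le_of_eq (by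
    rw [← Fintype.card_subtype, ← Fintype.card_subtype, ← Nat.card_eq_fintype_card,
      ← Nat.card_eq_fintype_card, card_fixed_irr hKW₁ hKW₁' hHall hW₂c hW₂K hC hx hx1,
      card_fixed_irr hKW₁ hKW₁' hHall hW₂c hW₂K hC hg hg1]))
  have hθ : θ ∈ Finset.univ.filter fun φ : Cfsg.IrrCharacter K =>
      conjFn hK (φ : K → ℂ) x = (φ : K → ℂ) := by simp [hfix]
  rw [← heq] at hθ
  exact (Finset.mem_filter.mp hθ).2

include hKW₁ hKW₁' hW₁c hHall hW₂c hW₂K hC in
theorem card_fixed_all (hW₁ : W₁ ≠ ⊥) :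
    Nat.card {θ : Cfsg.IrrCharacter K // ∀ y ∈ W₁, conjFn hK (θ : K → ℂ) y = (θ : K → ℂ)} =
      Nat.card W₂ := by
  obtain ⟨⟨x, hx⟩, hx1⟩ := Subgroup.ne_bot_iff_exists_ne_one.mp hW₁
  have hx1' : x ≠ 1 := fun h => hx1 (Subtype.ext h)
  rw [← card_fixed_irr hKW₁ hKW₁' hHall hW₂c hW₂K hC hx hx1']
  exact Nat.card_congr (Equiv.subtypeEquivRight fun θ =>
    ⟨fun h => h x hx, fun h => fixed_all_of_fixed hKW₁ hKW₁' hW₁c hHall hW₂c hW₂K hC θ hx hx1' h⟩)

include hKW₁ hKW₁' hW₁c hHall hW₂c hW₂K hC in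
theorem isIrr_indFun_of_moved {θ : K → ℂ} (hθ : Cfsg.IsIrrCharacter K θ) {x : L} (hx : x ∈ W₁)
    (hmov : conjFn hK θ x ≠ θ) : Cfsg.IsIrrCharacter L (Cfsg.indFun K θ) := by
  classical
  have := Fintype.ofFinite K
  have hT : ∀ g, conjFn hK θ g = θ → g ∈ K := by
    intro g hg
    have hgtop : g ∈ ((K ⊔ W₁ : Subgroup L) : Set L) := by rw [hKW₁']; trivial
    rw [Subgroup.normal_mul] at hgtop
    obtain ⟨k, hk, c, hc, rfl⟩ := hgtop
    have hcfix : conjFn hK θ c = θ := by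
      rw [← mem_inertia] at hg ⊢
      have hkT : k ∈ inertia hK θ :=
        CfsgLib.Clifford.le_inertia hK (IsIrr.isClassFunction hθ) hk
      have := mul_mem (inv_mem hkT) hg
      rwa [inv_mul_cancel_left] at this
    by_cases h1 : c = 1
    · simpa [h1] using hk
    · exact absurd (fixed_all_of_fixed hKW₁ hKW₁' hW₁c hHall hW₂c hW₂K hC ⟨θ, hθ⟩ hc h1 hcfix x hx)
        hmov
  refine IsChar.isIrr_of_classInner_eq_one (isCharacter_indFun K (IsIrr.isCharacter hθ)) ?_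
  have h := CfsgLib.Clifford.card_mul_classInner_indFun hK hθ
  rw [Nat.card_congr (Equiv.subtypeEquivRight fun g => (show conjFn hK θ g = θ ↔ g ∈ K from
    ⟨hT g, fun hg => mem_inertia.mp (CfsgLib.Clifford.le_inertia hK (IsIrr.isClassFunction hθ) hg)⟩))]
    at h
  have hne : (Nat.card K : ℂ) ≠ 0 := Nat.cast_ne_zero.mpr Nat.card_pos.ne'
  exact mul_left_cancel₀ hne (h.trans (mul_one _).symm)

include hKW₁ hKW₁' hW₁c hHall in
theorem exists_decomp_of_fixed {θ : K → ℂ} (hθ : Cfsg.IsIrrCharacter K θ)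
    (hfix : ∀ y ∈ W₁, conjFn hK θ y = θ) :
    ∃ C : Finset (L → ℂ), C.card = Nat.card W₁ ∧ (∀ μ ∈ C, Cfsg.IsIrrCharacter L μ) ∧
      Cfsg.indFun K θ = ∑ μ ∈ C, μ := by
  classical
  have := Fintype.ofFinite K
  have := Fintype.ofFinite (Cfsg.IrrCharacter (L ⧸ K))
  obtain ⟨hcompl, hcop⟩ := coprime_card hKW₁ hKW₁' hHall
  have hidx : K.index = Nat.card W₁ := hcompl.symm.index_eq_card
  have hθcl : Cfsg.IsClassFunction K θ := IsIrr.isClassFunction hθ
  obtain ⟨n, σ, hσ, hσc⟩ := id hθ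
  have := hσ
  have hinv : ∀ g k, σ.character (CfsgLib.CharExt.cn g k) = σ.character k := by
    intro g k
    rw [hσc]
    have hgtop : g ∈ ((K ⊔ W₁ : Subgroup L) : Set L) := by rw [hKW₁']; trivial
    rw [Subgroup.normal_mul] at hgtop
    obtain ⟨a, ha, c, hc, rfl⟩ := hgtop
    have : conjFn hK θ (a * c) = θ :=
      mem_inertia.mp (mul_mem (CfsgLib.Clifford.le_inertia hK hθcl ha)
        (mem_inertia.mpr (hfix c hc)))
    exact congrFun this k
  have hcop' : (orderOf (CfsgLib.CharExt.detHom σ) * Module.finrank ℂ (Fin n → ℂ)).Coprime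
      K.index := by
    rw [hidx]
    refine Nat.Coprime.mul_left (hcop.symm.coprime_dvd_left
      (orderOf_dvd_of_pow_eq_one (CfsgLib.CharExt.hom_pow_card _))) (hcop.symm.coprime_dvd_left ?_)
    exact CfsgLib.CharIntegral.finrank_dvd_card σ
  obtain ⟨ρ, hρ⟩ := CfsgLib.CharExt.exists_extension_coprime σ hinv hcop'
  have hres : (fun k : K => ρ.character k) = θ := by
    rw [← hσc]
    funext k
    simp [Representation.character, hρ k]
  have hresirr : Cfsg.IsIrrCharacter K fun k : K => ρ.character k := hres ▸ hθ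
  have hcomm : ∀ a b : L ⧸ K, a * b = b * a := by
    have hsurj : ∀ a : L ⧸ K, ∃ c : W₁, QuotientGroup.mk' K (c : L) = a := by
      intro a
      obtain ⟨g, rfl⟩ := QuotientGroup.mk'_surjective K a
      have hgtop : g ∈ ((K ⊔ W₁ : Subgroup L) : Set L) := by rw [hKW₁']; trivial
      rw [Subgroup.normal_mul] at hgtop
      obtain ⟨k, hk, c, hc, rfl⟩ := hgtop
      refine ⟨⟨c, hc⟩, ?_⟩
      rw [map_mul, show QuotientGroup.mk' K k = 1 from (QuotientGroup.eq_one_iff k).mpr hk, one_mul]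
    intro a b
    obtain ⟨c, rfl⟩ := hsurj a
    obtain ⟨d, rfl⟩ := hsurj b
    have := hW₁c
    let _ := IsCyclic.commGroup (α := W₁)
    rw [← map_mul, ← map_mul, show (c : L) * d = d * c from congrArg Subtype.val (mul_comm c d)]
  have hinj := CfsgLib.Gallagher.twistBy_injective (isCharacter_rep ρ) hresirr
  refine ⟨Finset.univ.image fun β : Cfsg.IrrCharacter (L ⧸ K) =>
    CfsgLib.Gallagher.twistBy ρ.character (β : L ⧸ K → ℂ), ?_, fun μ hμ => ?_, ?_⟩
  · rw [Finset.card_image_of_injective _ hinj, Finset.card_univ, ← Nat.card_eq_fintype_card,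
      ← Nat.card_eq_of_bijective _ (linear_bijective hcomm), card_hom hcomm, ← hidx]
    rfl
  · obtain ⟨β, -, rfl⟩ := Finset.mem_image.mp hμ
    exact CfsgLib.Gallagher.isIrr_twistBy (isCharacter_rep ρ) hresirr β
  · rw [Finset.sum_image fun a _ b _ h => hinj h]
    refine Eq.trans (by rw [hres]) ((CfsgLib.Gallagher.indFun_restrict_eq_sum (N := K)
      (IsChar.isClassFunction (isCharacter_rep ρ))).trans ?_)
    exact Finset.sum_congr rfl fun β _ => by
      rw [CfsgLib.Clifford.apply_one_eq_one_of_commute hcomm β, one_smul]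

end CfsgLib.CyclicTI
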